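import Mathlib.Data.Nat.Choose.Factorization
import Mathlib.Data.Nat.Choose.Basic
import Mathlib.NumberTheory.Bertrand
import Mathlib.Tactic.Linarith
import Mathlib.Tactic.LinearCombination
import Mathlib.Tactic.NormNum.Prime
import Mathlib.Tactic.IntervalCases

/-!
# Binomial coefficients without small prime divisors

If `1 < R < M` and no prime `≤ M` divides `(M + R).choose R`, then `M = 4` and `R = 3`.
This is the arithmetic behind the intransitive Hall subgroups of symmetric groups.
-/

set_option autoImplicit false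

namespace Cfsg.Agent.GenA.AltHall.Arith

/-- No carry in base `p`. -/
theorem mod_add_mod_lt {M R p i : ℕ} (hp : p.Prime) (h : ¬ p ∣ (M + R).choose R) (hi : 1 ≤ i) :
    M % p ^ i + R % p ^ i < p ^ i := by
  have h0 : ((M + R).choose R).factorization p = 0 := Nat.factorization_eq_zero_of_not_dvd h
  rw [Nat.factorization_choose' hp (b := Nat.log p (M + R) + i + 1) (by omega),
    Finset.card_eq_zero, Finset.filter_eq_empty_iff] at h0
  have := h0 (x := i) (Finset.mem_Ico.2 ⟨hi, by omega⟩)
  omega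

/-- A prime power dividing `M + j` forces `R` close below it. -/
theorem mod_lt_of_dvd_add {M R p i j : ℕ} (hp : p.Prime) (h : ¬ p ∣ (M + R).choose R) (hi : 1 ≤ i)
    (hj : 1 ≤ j) (hd : p ^ i ∣ M + j) : R % p ^ i < j := by
  have hlt := mod_add_mod_lt hp h hi
  rcases Nat.lt_or_ge (p ^ i) j with hc | hc
  · exact (Nat.mod_lt _ (pow_pos hp.pos _)).trans hc
  · obtain ⟨c, hc'⟩ := hd
    have h1 : M % p ^ i = p ^ i - j := by
      rcases c with _ | c
      · omega
      · have : M = (p ^ i - j) + p ^ i * c := by rw [Nat.mul_succ] at hc'; omega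
        rw [this, Nat.add_mul_mod_self_left, Nat.mod_eq_of_lt (by omega)]
    omega

/-- A prime power dividing `M + R - e`. -/
theorem mod_le_of_dvd_sub {M R p i e : ℕ} (hp : p.Prime) (h : ¬ p ∣ (M + R).choose R) (hi : 1 ≤ i)
    (he : e ≤ M + R) (hd : p ^ i ∣ M + R - e) : R % p ^ i ≤ e := by
  have hlt := mod_add_mod_lt hp h hi
  have h1 : (M + R) % p ^ i = M % p ^ i + R % p ^ i := by
    rw [Nat.add_mod, Nat.mod_eq_of_lt hlt]
  obtain ⟨c, hc⟩ := hd
  have h2 : (M + R) % p ^ i = e % p ^ i := by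
    rw [show M + R = e + p ^ i * c by omega, Nat.add_mul_mod_self_left]
  exact le_trans (Nat.le_add_left _ _) ((h1.symm.trans h2).trans_le (Nat.mod_le e (p ^ i)))

/-- Divisibility is checked on prime powers. -/
theorem dvd_of_forall_prime_pow {x N : ℕ} (hx : x ≠ 0)
    (h : ∀ p i : ℕ, p.Prime → 1 ≤ i → p ^ i ∣ x → p ∣ x → p ^ i ∣ N) : x ∣ N := by
  rw [Nat.dvd_iff_prime_pow_dvd_dvd]
  intro p i hp hd
  rcases i.eq_zero_or_pos with rfl | hi
  · simp
  · exact h p i hp hi hd ((dvd_pow_self p (by omega)).trans hd)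

theorem prime_le_of_not_prime {M R x p : ℕ} (hR : R < M) (hx : x ≤ M + R) (hxn : ¬ x.Prime)
    (hx2 : 2 ≤ x) (hp : p.Prime) (hpx : p ∣ x) : p ≤ M := by
  obtain ⟨c, rfl⟩ := hpx
  rcases c with _ | _ | c
  · omega
  · simp [hp] at hxn
  · nlinarith [hp.two_le]

/-- **Arithmetic of intransitive Hall subgroups.** -/
theorem eq_four_three {M R : ℕ} (h1 : 1 < R) (hRM : R < M)
    (h : ∀ p : ℕ, p.Prime → p ≤ M → ¬ p ∣ (M + R).choose R) : M = 4 ∧ R = 3 := by
  have hM1 : (M + 1).Prime := by
    by_contra hn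
    have : M + 1 ∣ R := dvd_of_forall_prime_pow (by omega) fun p i hp hi hd hpd => by
      have := mod_lt_of_dvd_add hp (h p hp (prime_le_of_not_prime hRM (by omega) hn (by omega) hp hpd))
        hi le_rfl hd
      exact Nat.dvd_of_mod_eq_zero (Nat.lt_one_iff.1 this)
    have := Nat.le_of_dvd (by omega) this
    omega
  have hn0 : (M + R).Prime := by
    by_contra hn
    have : M + R ∣ R := dvd_of_forall_prime_pow (by omega) fun p i hp hi hd hpd => by
      have := mod_le_of_dvd_sub hp (h p hp (prime_le_of_not_prime hRM le_rfl hn (by omega) hp hpd))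
        hi (e := 0) (by omega) (by simpa using hd)
      exact Nat.dvd_of_mod_eq_zero (Nat.le_zero.1 this)
    have := Nat.le_of_dvd (by omega) this
    omega
  have hMe : M % 2 = 0 := by
    rcases hM1.eq_two_or_odd with h2 | h2 <;> omega
  have hRo : R % 2 = 1 := by
    rcases hn0.eq_two_or_odd with h2 | h2 <;> omega
  have hnot : ∀ x, 2 < x → x % 2 = 0 → ¬ x.Prime := fun x hx2 hxe hxp => by
    rcases hxp.eq_two_or_odd with h2 | h2 <;> omega
  -- the two even neighbours divide `R (R - 1)`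
  have hsmall : ∀ p i : ℕ, R % p ^ i ≤ 1 → p ^ i ∣ R * (R - 1) := fun p i hle => by
    rcases Nat.le_one_iff_eq_zero_or_eq_one.1 hle with h0 | h0
    · exact dvd_mul_of_dvd_left (Nat.dvd_of_mod_eq_zero h0) _
    · refine dvd_mul_of_dvd_right ?_ _
      rw [← h0]
      exact Nat.dvd_sub_mod _
  have hX : M + 2 ∣ R * (R - 1) := dvd_of_forall_prime_pow (by omega) fun p i hp hi hd hpd => by
    have := mod_lt_of_dvd_add hp (h p hp (prime_le_of_not_prime hRM (by omega)
      (hnot _ (by omega) (by omega)) (by omega) hp hpd)) hi (by omega : 1 ≤ 2) hd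
    exact hsmall p i (by omega)
  have hY : M + R - 1 ∣ R * (R - 1) := dvd_of_forall_prime_pow (by omega) fun p i hp hi hd hpd => by
    exact hsmall p i (mod_le_of_dvd_sub hp (h p hp (prime_le_of_not_prime hRM (by omega)
      (hnot _ (by omega) (by omega)) (by omega) hp hpd)) hi (by omega) hd)
  rcases eq_or_ne R 3 with rfl | hR3
  · have := Nat.le_of_dvd (by omega) hX
    omega
  have hR5 : 5 ≤ R := by omega
  exfalso
  obtain ⟨k, hk⟩ := Nat.lcm_dvd hX hY
  set g := Nat.gcd (M + 2) (M + R - 1) with hg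
  have hg6 : g ∣ 6 := by
    have e1 : g ∣ R - 3 := by
      have := Nat.dvd_sub (Nat.gcd_dvd_right (M + 2) (M + R - 1)) (Nat.gcd_dvd_left (M + 2) (M + R - 1))
      rwa [show M + R - 1 - (M + 2) = R - 3 by omega] at this
    have e2 : g ∣ R * (R - 1) := (Nat.gcd_dvd_left _ _).trans hX
    obtain ⟨T, rfl⟩ : ∃ T, R = T + 3 := ⟨R - 3, by omega⟩
    rw [show T + 3 - 3 = T by omega] at e1
    rw [show (T + 3) * (T + 3 - 1) = T * (T + 5) + 6 by
      rw [show T + 3 - 1 = T + 2 by omega]; ring] at e2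
    exact (Nat.dvd_add_right (dvd_mul_of_dvd_left e1 _)).1 e2
  have hg2 : 2 ∣ g := Nat.dvd_gcd (by omega) (by omega)
  have heq : (M + 2) * (M + R - 1) * k = g * (R * (R - 1)) := by
    rw [hk, ← mul_assoc g, Nat.gcd_mul_lcm]
  have hbig : 2 * R * (R + 3) ≤ (M + 2) * (M + R - 1) := by
    calc 2 * R * (R + 3) = (R + 3) * (2 * R) := by ring
      _ ≤ _ := Nat.mul_le_mul (by omega) (by omega)
  have hk0 : 0 < k := by
    rcases k.eq_zero_or_pos with rfl | hk0
    · have : 0 < R * (R - 1) := Nat.mul_pos (by omega) (by omega)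
      simp at hk
      omega
    · exact hk0
  have hgle : g ≤ 6 := Nat.le_of_dvd (by norm_num) hg6
  have hgeq : g = 6 := by
    by_contra hne
    have h2 : g = 2 := by interval_cases g <;> omega
    rw [h2] at heq
    have : (M + 2) * (M + R - 1) ≤ 2 * (R * (R - 1)) := heq ▸ Nat.le_mul_of_pos_right _ hk0
    have : 2 * (R * (R - 1)) ≤ 2 * (R * R) := Nat.mul_le_mul_left _ (Nat.mul_le_mul_left _ (by omega))
    nlinarith
  rw [hgeq] at heq
  have h3X : 3 ∣ M + 2 := (dvd_trans (b := g) (by omega) (Nat.gcd_dvd_left (M + 2) (M + R - 1)))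
  have h3R : 3 ∣ R := by
    have h3Y : 3 ∣ M + R - 1 :=
      (dvd_trans (b := g) (by omega) (Nat.gcd_dvd_right (M + 2) (M + R - 1)))
    omega
  have heqZ : ((M : ℤ) + 2) * (M + R - 1) * k = 6 * (R * (R - 1)) := by
    have := congrArg (Nat.cast : ℕ → ℤ) heq
    push_cast [Nat.cast_sub (by omega : 1 ≤ M + R), Nat.cast_sub (by omega : 1 ≤ R)] at this
    linarith
  have hk2 : k ≤ 2 := by
    by_contra hk3
    have h3k : (M + 2) * (M + R - 1) * 3 ≤ 6 * (R * (R - 1)) :=
      heq ▸ Nat.mul_le_mul_left _ (by omega)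
    have : R * (R - 1) ≤ R * R := Nat.mul_le_mul_left _ (by omega)
    nlinarith
  interval_cases k
  · -- `M + 2 = 2 R`
    have hM : (M : ℤ) + 2 = 2 * R := by
      have hf : ((M : ℤ) + 2 - 2 * R) * (M + 2 + 3 * R - 3) = 0 := by
        linear_combination heqZ
      rcases mul_eq_zero.1 hf with h0 | h0 <;> linarith
    have hM' : M + 2 = 2 * R := by exact_mod_cast hM
    have hx : M + 4 ∣ 24 := dvd_of_forall_prime_pow (by omega) fun p i hp hi hd hpd => by
      have hlt := mod_lt_of_dvd_add hp (h p hp (prime_le_of_not_prime hRM (by omega)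
        (hnot _ (by omega) (by omega)) (by omega) hp hpd)) hi (by omega : 1 ≤ 4) hd
      have h2 : p ^ i ∣ 2 * (R % p ^ i + 1) := by
        have e : p ^ i ∣ 2 * (R + 1) := by rwa [show 2 * (R + 1) = M + 4 by omega]
        rw [show 2 * (R + 1) = 2 * (R % p ^ i + 1) + p ^ i * (2 * (R / p ^ i)) by
          conv_lhs => rw [← Nat.mod_add_div R (p ^ i)]
          ring] at e
        exact (Nat.dvd_add_left (dvd_mul_right _ _)).1 e
      refine h2.trans ?_
      generalize R % p ^ i = r at hlt
      interval_cases r <;> norm_num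
    have : M + 4 ≤ 24 := Nat.le_of_dvd (by norm_num) hx
    have : R ≤ 11 := by omega
    obtain rfl : R = 9 := by omega
    rw [show M + 4 = 20 by omega] at hx
    norm_num at hx
  · -- `(M + 2) (M + R - 1) = 3 R (R - 1)`
    have hE : ((M : ℤ) + 2) * (M + R - 1) = 3 * (R * (R - 1)) := by
      push_cast at heqZ
      linarith
    have hn5 : ¬ (M + 5).Prime := fun hp5 => by
      rcases (Nat.prime_def.1 hp5).2 3 (by omega) with h3 | h3 <;> omega
    have hx : M + 5 ∣ 90 := dvd_of_forall_prime_pow (by omega) fun p i hp hi hd hpd => by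
      have hlt := mod_lt_of_dvd_add hp (h p hp (prime_le_of_not_prime hRM (by omega) hn5
        (by omega) hp hpd)) hi (by omega : 1 ≤ 5) hd
      -- modulo `p ^ i`: `18 = 3 R ^ 2`
      have e1 : ((p ^ i : ℕ) : ℤ) ∣ (M : ℤ) + 5 := by exact_mod_cast hd
      have e2 : ((p ^ i : ℕ) : ℤ) ∣ (R : ℤ) - (R % p ^ i : ℕ) := by
        refine ⟨(R / p ^ i : ℕ), ?_⟩
        have := congrArg (Nat.cast : ℕ → ℤ) (Nat.mod_add_div R (p ^ i))
        push_cast at this ⊢
        linarith
      generalize R % p ^ i = r at hlt e2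
      have e3 : ((p ^ i : ℕ) : ℤ) ∣ 18 - 3 * (r : ℤ) ^ 2 := by
        have h5 : (18 : ℤ) - 3 * (r : ℤ) ^ 2 =
            3 * ((R : ℤ) + r) * ((R : ℤ) - r) + (4 - (M : ℤ) - R) * ((M : ℤ) + 5) := by
          linear_combination hE
        rw [h5]
        exact dvd_add (dvd_mul_of_dvd_right e2 _) (dvd_mul_of_dvd_right e1 _)
      rw [Int.natCast_dvd] at e3
      refine e3.trans ?_
      interval_cases r <;> norm_num
    have hx90 : M + 5 ≤ 90 := Nat.le_of_dvd (by norm_num) hx
    have hxs : M + 5 = 9 ∨ M + 5 = 15 ∨ M + 5 = 45 := by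
      generalize hm : M + 5 = m at hx hx90
      have : m % 6 = 3 := by omega
      interval_cases m <;> omega
    rcases hxs with hx' | hx' | hx'
    · omega
    · obtain rfl : M = 10 := by omega
      obtain rfl : R = 9 := by interval_cases R <;> omega
      exact h 2 Nat.prime_two (by norm_num) (by decide)
    · obtain rfl : M = 40 := by omega
      interval_cases R <;> omega

end Cfsg.Agent.GenA.AltHall.Arith
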