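import Cfsg.Prelude.Def_OddOrderLocal
import Cfsg.Prelude.Def_HallClasses
import Mathlib.GroupTheory.SpecificGroups.Alternating
import Mathlib.GroupTheory.Perm.Cycle.Concrete
import Mathlib.GroupTheory.Sylow
import Mathlib.GroupTheory.GroupAction.Basic
import Mathlib.GroupTheory.GroupAction.Primitive

/-!
# Hall subgroups of symmetric and alternating groups: invariant sets

A Hall subgroup `H` of `T` (the symmetric or alternating group) that preserves a set `s` has a Hall
subgroup of the symmetric or alternating group on `s` as restriction, and `(|α|).choose |s|` is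
prime to `π`.
-/

set_option autoImplicit false

namespace Cfsg.Agent.GenA.AltHall

open Equiv
open scoped Pointwise

variable {α : Type*} [Fintype α] [DecidableEq α]

/-- `T` is the symmetric or the alternating group. -/
def IsT (T : Subgroup (Perm α)) : Prop := T = ⊤ ∨ T = alternatingGroup α

theorem IsT.alt_le {T : Subgroup (Perm α)} (h : IsT T) : alternatingGroup α ≤ T := by
  rcases h with rfl | rfl
  exacts [le_top, le_rfl]

theorem IsT.normal {T : Subgroup (Perm α)} (h : IsT T) : T.Normal := by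
  rcases h with rfl | rfl <;> infer_instance

theorem sup_eq_top {T S : Subgroup (Perm α)} (hT : IsT T) {o : Perm α} (ho : o ∈ S)
    (hs : Perm.sign o = -1) : T ⊔ S = ⊤ := by
  refine eq_top_iff.2 fun g _ => ?_
  rcases Int.units_eq_one_or (Perm.sign g) with h | h
  · exact Subgroup.mem_sup_left (hT.alt_le (Perm.mem_alternatingGroup.2 h))
  · have hgo : g * o⁻¹ ∈ T := hT.alt_le (Perm.mem_alternatingGroup.2 (by simp [h, hs]))
    simpa using Subgroup.mul_mem_sup hgo ho

section General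

variable {G Q : Type*} [Group G] [Group Q] [Finite G]

theorem hallOf_of_le {π : Set ℕ} {H K L : Subgroup G} (h : Cfsg.IsPiHallOf π H L) (hHK : H ≤ K)
    (hKL : K ≤ L) : Cfsg.IsPiHallOf π H K :=
  ⟨hHK, h.2.1, fun p hp hpi hd => h.2.2 p hp hpi
    (hd.trans ⟨K.relIndex L, (Subgroup.relIndex_mul_relIndex H K L hHK hKL).symm⟩)⟩

theorem hallOf_map {π : Set ℕ} {H K : Subgroup G} (h : Cfsg.IsPiHallOf π H K) (f : G →* Q) :
    Cfsg.IsPiHallOf π (H.map f) (K.map f) := by
  refine ⟨Subgroup.map_mono h.1, fun p hp hd => h.2.1 p hp (hd.trans (H.card_map_dvd f)),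
    fun p hp hpi hd => h.2.2 p hp hpi (hd.trans ?_)⟩
  have he : (H.map f).subgroupOf (K.map f) = (H.subgroupOf K).map (f.subgroupMap K) := by
    ext ⟨y, hy⟩
    constructor
    · rintro ⟨x, hx, hxy⟩
      exact ⟨⟨x, h.1 hx⟩, hx, Subtype.ext hxy⟩
    · rintro ⟨⟨x, hxK⟩, hx, hxy⟩
      exact ⟨x, hx, congrArg Subtype.val hxy⟩
  rw [Subgroup.relIndex, he, Subgroup.relIndex]
  exact Subgroup.index_map_dvd _ (MonoidHom.subgroupMap_surjective f K)

theorem hallOf_subgroupOf {π : Set ℕ} {H K S : Subgroup G} (h : Cfsg.IsPiHallOf π H K)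
    (hKS : K ≤ S) : Cfsg.IsPiHallOf π (H.subgroupOf S) (K.subgroupOf S) := by
  refine ⟨Subgroup.comap_mono h.1, fun p hp hd => h.2.1 p hp ?_, fun p hp hpi hd => h.2.2 p hp hpi ?_⟩
  · rwa [← Nat.card_congr (Subgroup.subgroupOfEquivOfLe (h.1.trans hKS)).toEquiv]
  · rwa [Subgroup.relIndex_subgroupOf hKS] at hd

/-- A Hall subgroup contains a conjugate of every `p`-subgroup, `p ∈ π`. -/
theorem exists_conj_le {π : Set ℕ} {H K : Subgroup G} (h : Cfsg.IsPiHallOf π H K) {p : ℕ}
    (hp : p.Prime) (hpi : p ∈ π) {X : Subgroup G} (hXK : X ≤ K) (hX : IsPGroup p X) :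
    ∃ t ∈ K, ∀ x ∈ X, t * x * t⁻¹ ∈ H := by
  haveI := Fact.mk hp
  classical
  set H' : Subgroup K := H.subgroupOf K
  let P : Sylow p H' := default
  have hPp : IsPGroup p ((P : Subgroup H').map H'.subtype) := P.2.map _
  have hPi : ¬ p ∣ ((P : Subgroup H').map H'.subtype).index := by
    rw [Subgroup.index_map_subtype]
    intro hd
    rcases hp.dvd_mul.1 hd with hd | hd
    · exact P.not_dvd_index hd
    · exact h.2.2 p hp hpi hd
  set P' : Sylow p K := hPp.toSylow hPi
  obtain ⟨R, hR⟩ := (hX.comap_subtype (K := K)).exists_le_sylow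
  obtain ⟨t, ht⟩ := MulAction.exists_smul_eq K R P'
  refine ⟨t, t.2, fun x hx => ?_⟩
  have : MulAut.conj t (⟨x, hXK hx⟩ : K) ∈ (P' : Subgroup K) := by
    rw [← ht]
    exact ⟨⟨x, hXK hx⟩, hR hx, rfl⟩
  rw [IsPGroup.toSylow_coe] at this
  exact (Subgroup.map_subtype_le _ this : MulAut.conj t (⟨x, hXK hx⟩ : K) ∈ H')

/-- A Hall subgroup meets the conjugates of every element of prime power order. -/
theorem exists_conj_mem {π : Set ℕ} {H K : Subgroup G} (h : Cfsg.IsPiHallOf π H K) {p : ℕ}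
    (hp : p.Prime) (hpi : p ∈ π) {x : G} (hxK : x ∈ K) {k : ℕ} (hx : x ^ p ^ k = 1) :
    ∃ t ∈ K, t * x * t⁻¹ ∈ H := by
  obtain ⟨t, htK, ht⟩ := exists_conj_le h hp hpi (Subgroup.zpowers_le.2 hxK)
    (IsPGroup.of_card_dvd_pow (n := k) (p := p) (by
      rw [Nat.card_zpowers]; exact orderOf_dvd_of_pow_eq_one hx))
  exact ⟨t, htK, ht x (Subgroup.mem_zpowers x)⟩

end General

/-- The permutations preserving `s`. -/
def stabP (s : Finset α) : Subgroup (Perm α) where
  carrier := {g | ∀ x, g x ∈ s ↔ x ∈ s}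
  one_mem' := fun _ => Iff.rfl
  mul_mem' := fun {g h} hg hh x => (hg (h x)).trans (hh x)
  inv_mem' := fun {g} hg x => by simpa using (hg (g⁻¹ x)).symm

theorem mem_stabP {s : Finset α} {g : Perm α} : g ∈ stabP s ↔ ∀ x, g x ∈ s ↔ x ∈ s := Iff.rfl

theorem mem_stabP_of_imp {s : Finset α} {g : Perm α} (h : ∀ x ∈ s, g x ∈ s) : g ∈ stabP s := by
  intro x
  refine ⟨fun hx => ?_, h x⟩
  have hi : s.image g = s := Finset.eq_of_subset_of_card_le
    (by intro y hy; obtain ⟨z, hz, rfl⟩ := Finset.mem_image.1 hy; exact h z hz)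
    (Finset.card_image_of_injective _ g.injective).ge
  rw [← hi] at hx
  obtain ⟨z, hz, hzx⟩ := Finset.mem_image.1 hx
  exact g.injective hzx ▸ hz

theorem stabP_compl (s : Finset α) : stabP sᶜ = stabP s := by
  ext g
  simp only [mem_stabP, Finset.mem_compl]
  exact forall_congr' fun x => not_iff_not

theorem swap_mem_stabP {s : Finset α} {a b : α} (h : a ∈ s ↔ b ∈ s) : swap a b ∈ stabP s := by
  intro x
  rw [swap_apply_def]
  split_ifs with h1 h2
  · subst h1; exact h.symm
  · subst h2; exact h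
  · exact Iff.rfl

/-- Restriction to an invariant set. -/
def res (s : Finset α) : stabP s →* Perm {x // x ∈ s} where
  toFun g := (g : Perm α).subtypePerm fun x => g.2 x
  map_one' := by ext; rfl
  map_mul' g h := by ext; rfl

@[simp] theorem res_apply (s : Finset α) (g : stabP s) (x : {x // x ∈ s}) :
    (res s g x : α) = (g : Perm α) x := rfl

/-- The restriction of a subgroup to an invariant set. -/
def image (H : Subgroup (Perm α)) (s : Finset α) : Subgroup (Perm {x // x ∈ s}) :=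
  (H.subgroupOf (stabP s)).map (res s)

theorem mem_image_iff {H : Subgroup (Perm α)} {s : Finset α} {σ : Perm {x // x ∈ s}} :
    σ ∈ image H s ↔ ∃ g, ∃ hg : g ∈ stabP s, g ∈ H ∧ res s ⟨g, hg⟩ = σ := by
  constructor
  · rintro ⟨g, hg, rfl⟩
    exact ⟨g, g.2, hg, rfl⟩
  · rintro ⟨g, hg, hgH, rfl⟩
    exact ⟨⟨g, hg⟩, hgH, rfl⟩

/-- **The restriction of a Hall subgroup to an invariant set is a Hall subgroup.** -/
theorem hall_image' {π : Set ℕ} {H T : Subgroup (Perm α)} {s : Finset α}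
    (h : Cfsg.IsPiHallOf π H (T ⊓ stabP s)) (hT : IsT T) :
    ∃ T' : Subgroup (Perm {x // x ∈ s}), IsT T' ∧ Cfsg.IsPiHallOf π (image H s) T' ∧
      (T = ⊤ ∨ 2 ≤ sᶜ.card → T' = ⊤) ∧
      (¬ (T = ⊤ ∨ 2 ≤ sᶜ.card) → T' = alternatingGroup {x // x ∈ s}) := by
  have h1 := hallOf_map (hallOf_subgroupOf h inf_le_right) (res s)
  have hof : ∀ σ : Perm {x // x ∈ s}, Perm.ofSubtype σ ∈ stabP s := fun σ x => by
    by_cases hx : x ∈ s
    · simp [Perm.ofSubtype_apply_of_mem σ hx, hx]
    · simp [Perm.ofSubtype_apply_of_not_mem σ hx]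
  have hres : ∀ σ : Perm {x // x ∈ s}, res s ⟨Perm.ofSubtype σ, hof σ⟩ = σ := fun σ => by
    ext x
    simp
  by_cases hbig : T = ⊤ ∨ 2 ≤ sᶜ.card
  · refine ⟨⊤, Or.inl rfl, ?_, fun _ => rfl, fun e => absurd hbig e⟩
    have htop : ((T ⊓ stabP s).subgroupOf (stabP s)).map (res s) = ⊤ := by
      refine eq_top_iff.2 fun σ _ => ?_
      by_cases hσ : Perm.ofSubtype σ ∈ T
      · exact ⟨⟨_, hof σ⟩, ⟨hσ, hof σ⟩, hres σ⟩
      · rcases hbig with rfl | hbig
        · exact absurd (Subgroup.mem_top _) hσ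
        obtain ⟨a, ha, b, hb, hab⟩ := Finset.one_lt_card.1 hbig
        rw [Finset.mem_compl] at ha hb
        have hw : swap a b ∈ stabP s := swap_mem_stabP (by simp [ha, hb])
        have hsgn : Perm.sign (Perm.ofSubtype σ * swap a b) = 1 := by
          rw [map_mul, Perm.sign_swap hab]
          rcases Int.units_eq_one_or (Perm.sign (Perm.ofSubtype σ)) with e | e
          · exact absurd (hT.alt_le (Perm.mem_alternatingGroup.2 e)) hσ
          · rw [e]; rfl
        refine ⟨⟨_, mul_mem (hof σ) hw⟩,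
          ⟨hT.alt_le (Perm.mem_alternatingGroup.2 hsgn), mul_mem (hof σ) hw⟩, ?_⟩
        ext x
        have : swap a b (x : α) = x := swap_apply_of_ne_of_ne
          (fun e => ha (e ▸ x.2)) (fun e => hb (e ▸ x.2))
        simp [this]
    rwa [htop] at h1
  · push Not at hbig
    have hTA : T = alternatingGroup α := hT.resolve_left hbig.1
    refine ⟨alternatingGroup {x // x ∈ s}, Or.inr rfl, ?_,
      fun e => absurd e (by push Not; exact hbig), fun _ => rfl⟩
    have hA : ((T ⊓ stabP s).subgroupOf (stabP s)).map (res s) = alternatingGroup _ := by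
      subst hTA
      refine le_antisymm ?_ fun σ hσ => ⟨⟨_, hof σ⟩, ⟨?_, hof σ⟩, hres σ⟩
      · rintro _ ⟨⟨g, hg⟩, ⟨hgA, -⟩, rfl⟩
        have hfix : ∀ x, x ∉ s → g x = x := fun x hx => by
          have hgx : g x ∉ s := fun e => hx ((hg x).1 e)
          exact Finset.card_le_one.1 (by omega) _ (Finset.mem_compl.2 hgx) _ (Finset.mem_compl.2 hx)
        have he : Perm.ofSubtype (res s ⟨g, hg⟩) = g := by
          ext x
          by_cases hx : x ∈ s
          · rw [Perm.ofSubtype_apply_of_mem _ hx]; rfl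
          · rw [Perm.ofSubtype_apply_of_not_mem _ hx, hfix x hx]
        refine Perm.mem_alternatingGroup.2 ?_
        rw [← Perm.sign_ofSubtype, he]
        exact Perm.mem_alternatingGroup.1 hgA
      · exact Perm.mem_alternatingGroup.2 (show Perm.sign (Perm.ofSubtype σ) = 1 by
          rw [Perm.sign_ofSubtype]; exact Perm.mem_alternatingGroup.1 hσ)
    rwa [hA] at h1

/-- The restriction of a Hall subgroup of `T` to an invariant set. -/
theorem hall_image {π : Set ℕ} {H T : Subgroup (Perm α)} (h : Cfsg.IsPiHallOf π H T) (hT : IsT T)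
    {s : Finset α} (hs : H ≤ stabP s) :
    ∃ T' : Subgroup (Perm {x // x ∈ s}), IsT T' ∧ Cfsg.IsPiHallOf π (image H s) T' ∧
      (T = ⊤ ∨ 2 ≤ sᶜ.card → T' = ⊤) ∧
      (¬ (T = ⊤ ∨ 2 ≤ sᶜ.card) → T' = alternatingGroup {x // x ∈ s}) :=
  hall_image' (hallOf_of_le h (le_inf h.1 hs) inf_le_left) hT

/-- Two subgroups with the same index over their traces on `S`. -/
theorem hallOf_inf {π : Set ℕ} {H K S : Subgroup (Perm α)} (h : Cfsg.IsPiHallOf π H K)
    (he : S.relIndex H = S.relIndex K) : Cfsg.IsPiHallOf π (H ⊓ S) (K ⊓ S) := by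
  refine ⟨inf_le_inf_right _ h.1,
    fun p hp hd => h.2.1 p hp (hd.trans (Subgroup.card_dvd_of_le inf_le_left)), ?_⟩
  have e1 := Subgroup.relIndex_mul_relIndex (H ⊓ S) H K inf_le_left h.1
  have e2 := Subgroup.relIndex_mul_relIndex (H ⊓ S) (K ⊓ S) K (inf_le_inf_right _ h.1) inf_le_left
  rw [Subgroup.inf_relIndex_left, he] at e1
  rw [Subgroup.inf_relIndex_left, ← e1, mul_comm] at e2
  rw [Nat.eq_of_mul_eq_mul_left (Nat.pos_of_ne_zero (fun e0 => by
    have := Subgroup.relIndex_dvd_card (H := S) (K := K)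
    rw [e0, zero_dvd_iff] at this
    exact Nat.card_pos.ne' this)) e2]
  exact h.2.2

/-- A Hall subgroup of `T` inside `S` with `T S = ⊤` forces the index of `S` prime to `π`. -/
theorem not_dvd_index {π : Set ℕ} {H T S : Subgroup (Perm α)} (h : Cfsg.IsPiHallOf π H T)
    (hT : IsT T) (hHS : H ≤ S) (hsup : T ⊔ S = ⊤) {p : ℕ} (hp : p.Prime) (hpi : p ∈ π) :
    ¬ p ∣ S.index := by
  haveI := hT.normal
  intro hd
  have e1 : T.relIndex S = T.index := by
    rw [← Subgroup.relIndex_sup_left, hsup, Subgroup.relIndex_top_right]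
  have e2 : (T ⊓ S).relIndex T = S.index := by
    have h3 := Subgroup.relIndex_mul_index (inf_le_left : T ⊓ S ≤ T)
    have h4 := Subgroup.relIndex_mul_index (inf_le_right : T ⊓ S ≤ S)
    rw [Subgroup.inf_relIndex_right, e1] at h4
    exact Nat.eq_of_mul_eq_mul_right (Nat.pos_of_ne_zero Subgroup.index_ne_zero_of_finite)
      (by rw [h3, ← h4, mul_comm])
  exact h.2.2 p hp hpi (hd.trans (e2 ▸ ⟨_, (Subgroup.relIndex_mul_relIndex H (T ⊓ S) T
    (le_inf h.1 hHS) inf_le_left).symm.trans (mul_comm _ _)⟩))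

theorem card_stabP_dvd (s : Finset α) :
    Nat.card (stabP s) ∣ s.card.factorial * sᶜ.card.factorial := by
  let f : stabP s →* Perm {x // x ∈ s} × Perm {x // x ∈ sᶜ} :=
    (res s).prod ((res sᶜ).comp (Subgroup.inclusion (stabP_compl s).ge))
  have hf : Function.Injective f := by
    intro g g' hgg
    simp only [f, MonoidHom.prod_apply, MonoidHom.comp_apply, Prod.mk.injEq] at hgg
    ext x
    by_cases hx : x ∈ s
    · exact congrArg (fun σ : Perm {x // x ∈ s} => (σ ⟨x, hx⟩ : α)) hgg.1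
    · exact congrArg (fun σ : Perm {x // x ∈ sᶜ} => (σ ⟨x, by simpa using hx⟩ : α)) hgg.2
  have := Subgroup.card_dvd_of_injective f hf
  rwa [Nat.card_prod, Nat.card_perm, Nat.card_perm, Nat.card_eq_fintype_card (α := {x // x ∈ s}),
    Nat.card_eq_fintype_card (α := {x // x ∈ sᶜ}), Fintype.card_coe, Fintype.card_coe] at this

theorem choose_dvd_index (s : Finset α) :
    (Fintype.card α).choose s.card ∣ (stabP s).index := by
  obtain ⟨c, hc⟩ := card_stabP_dvd s
  have h1 := (stabP s).index_mul_card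
  rw [Nat.card_perm, Nat.card_eq_fintype_card (α := α),
    ← Nat.choose_mul_factorial_mul_factorial s.card_le_univ, mul_assoc,
    ← Finset.card_compl, hc] at h1
  exact ⟨c, Nat.eq_of_mul_eq_mul_right (Nat.card_pos (α := stabP s)) (by rw [h1]; ring)⟩

/-- **No prime of `π` divides `|α|.choose |s|` for an invariant set `s`.** -/
theorem not_dvd_choose {π : Set ℕ} {H T : Subgroup (Perm α)} (h : Cfsg.IsPiHallOf π H T)
    (hT : IsT T) (h3 : 3 ≤ Fintype.card α) {s : Finset α} (hs : H ≤ stabP s) {p : ℕ} (hp : p.Prime)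
    (hpi : p ∈ π) : ¬ p ∣ (Fintype.card α).choose s.card := by
  obtain ⟨a, b, hab, hmem⟩ : ∃ a b : α, a ≠ b ∧ (a ∈ s ↔ b ∈ s) := by
    have := s.card_add_card_compl
    rcases (by omega : 2 ≤ s.card ∨ 2 ≤ sᶜ.card) with hc | hc <;>
      obtain ⟨a, ha, b, hb, hab⟩ := Finset.one_lt_card.1 hc <;>
      exact ⟨a, b, hab, by simp_all⟩
  exact fun hd => not_dvd_index h hT hs (sup_eq_top hT (swap_mem_stabP hmem) (Perm.sign_swap hab))
    hp hpi (hd.trans (choose_dvd_index s))

/-- The orbit of a point. -/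
noncomputable def orb (H : Subgroup (Perm α)) (x : α) : Finset α :=
  (MulAction.orbit H x).toFinite.toFinset

theorem mem_orb {H : Subgroup (Perm α)} {x y : α} : y ∈ orb H x ↔ ∃ g ∈ H, g x = y := by
  simp [orb, MulAction.mem_orbit_iff, Subgroup.smul_def]

theorem self_mem_orb (H : Subgroup (Perm α)) (x : α) : x ∈ orb H x :=
  mem_orb.2 ⟨1, one_mem _, rfl⟩

theorem le_stabP_orb (H : Subgroup (Perm α)) (x : α) : H ≤ stabP (orb H x) := fun g hg =>
  mem_stabP_of_imp fun y hy => by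
    obtain ⟨k, hk, rfl⟩ := mem_orb.1 hy
    exact mem_orb.2 ⟨g * k, mul_mem hg hk, rfl⟩

theorem orb_subset {H : Subgroup (Perm α)} {s : Finset α} (hs : H ≤ stabP s) {x : α} (hx : x ∈ s) :
    orb H x ⊆ s := fun y hy => by
  obtain ⟨g, hg, rfl⟩ := mem_orb.1 hy
  exact (hs hg x).2 hx

theorem image_isPretransitive (H : Subgroup (Perm α)) (x : α) :
    MulAction.IsPretransitive (image H (orb H x)) {y // y ∈ orb H x} := by
  refine ⟨fun a b => ?_⟩
  obtain ⟨g, hg, hga⟩ := mem_orb.1 a.2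
  obtain ⟨k, hk, hkb⟩ := mem_orb.1 b.2
  have hm : k * g⁻¹ ∈ H := mul_mem hk (inv_mem hg)
  refine ⟨⟨res _ ⟨k * g⁻¹, le_stabP_orb H x hm⟩, mem_image_iff.2 ⟨_, _, hm, rfl⟩⟩, ?_⟩
  apply Subtype.ext
  simp only [Subgroup.smul_def, Perm.smul_def, res_apply, Perm.mul_apply]
  rw [← hga, show g⁻¹ (g x) = x from g.symm_apply_apply x, hkb]

/-- A Hall subgroup contains a cycle of every prime length in `π`. -/
theorem exists_cycle {π : Set ℕ} {H T : Subgroup (Perm α)} (h : Cfsg.IsPiHallOf π H T) (hT : IsT T)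
    {p : ℕ} (hp : p.Prime) (hpi : p ∈ π) (hpn : p ≤ Fintype.card α) (hodd : T = ⊤ ∨ p ≠ 2) :
    ∃ g ∈ H, g.IsCycle ∧ g.support.card = p := by
  obtain ⟨l, hl⟩ := Finset.exists_subset_card_eq (s := (Finset.univ : Finset α)) (n := p) (by simpa)
  set c : Perm α := l.toList.formPerm with hc
  have hlen : l.toList.length = p := by simp [hl.2]
  have h1 : c.IsCycle := List.isCycle_formPerm l.nodup_toList (by rw [hlen]; exact hp.two_le)
  have h2 : c.support.card = p := by
    rw [hc, List.support_formPerm_of_nodup _ l.nodup_toList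
      (fun x hx => by have := hp.two_le; rw [hx] at hlen; simp at hlen; omega)]
    simp [hl.2]
  have h3 : c ∈ T := by
    rcases hodd with rfl | hp2
    · trivial
    · refine hT.alt_le (Perm.mem_alternatingGroup.2 ?_)
      rw [h1.sign, h2, (hp.odd_of_ne_two hp2).neg_one_pow, neg_neg]
  obtain ⟨t, -, ht⟩ := exists_conj_mem h hp hpi h3 (k := 1)
    (by rw [pow_one, ← h2, ← h1.orderOf]; exact pow_orderOf_eq_one c)
  exact ⟨_, ht, h1.conj, by rw [Perm.card_support_conj, h2]⟩

end Cfsg.Agent.GenA.AltHall
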