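import Cfsg.Agent.GenA.AltHall.Basic

/-!
# Hall subgroups of symmetric and alternating groups: blocks of imprimitivity
-/

set_option autoImplicit false

namespace Cfsg.Agent.GenA.AltHall

open Equiv
open scoped Pointwise

variable {α : Type*} [Fintype α] [DecidableEq α]

/-- The permutations preserving the partition into the fibres of `f`. -/
def fibStab {β : Type*} (f : α → β) : Subgroup (Perm α) where
  carrier := {g | ∀ x y, f (g x) = f (g y) ↔ f x = f y}
  one_mem' := fun _ _ => Iff.rfl
  mul_mem' := fun {g h} hg hh x y => (hg (h x) (h y)).trans (hh x y)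
  inv_mem' := fun {g} hg x y => by simpa using (hg (g⁻¹ x) (g⁻¹ y)).symm

theorem mem_fibStab {β : Type*} {f : α → β} {g : Perm α} :
    g ∈ fibStab f ↔ ∀ x y, f (g x) = f (g y) ↔ f x = f y := Iff.rfl

theorem fibStab_of_eq {β : Type*} {f : α → β} {g : Perm α} (h : ∀ x, f (g x) = f x) :
    g ∈ fibStab f := fun x y => by rw [h, h]

variable {β : Type*} [Fintype β] [DecidableEq β] {f : α → β}

/-- The induced permutation of the fibres. -/
noncomputable def indPerm (hf : Function.Surjective f) : fibStab f →* Perm β :=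
  MonoidHom.toHomPerm
    { toFun := fun g b => f ((g : Perm α) (Function.surjInv hf b))
      map_one' := by
        funext b
        exact Function.surjInv_eq hf b
      map_mul' := fun g h => by
        funext b
        show f ((g : Perm α) ((h : Perm α) _)) = f ((g : Perm α) _)
        exact (g.2 _ _).2 (Function.surjInv_eq hf _).symm }

theorem indPerm_apply (hf : Function.Surjective f) (g : fibStab f) (x : α) :
    indPerm hf g (f x) = f ((g : Perm α) x) :=
  (g.2 _ _).2 (Function.surjInv_eq hf _)

theorem card_fibStab_dvd (hf : Function.Surjective f) :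
    Nat.card (fibStab f) ∣ (Fintype.card β).factorial *
      ∏ b : β, ((Finset.univ.filter fun x => f x = b).card).factorial := by
  rw [← (indPerm hf).ker.index_mul_card, Subgroup.index_ker]
  refine mul_dvd_mul ?_ ?_
  · exact (Subgroup.card_subgroup_dvd_card _).trans (dvd_of_eq (by rw [Nat.card_perm, Nat.card_eq_fintype_card]))
  · let F : (indPerm hf).ker →* ∀ b : β, Perm {x // x ∈ Finset.univ.filter fun x => f x = b} :=
      MonoidHom.mk' (fun g b => ((g : fibStab f) : Perm α).subtypePerm fun x => by
          have := indPerm_apply hf g x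
          rw [MonoidHom.mem_ker.1 g.2, Perm.one_apply] at this
          simp [this])
        fun g h => by funext b; ext x; rfl
    have hF : Function.Injective F := fun g h hgh => by
      ext x
      exact congrArg (fun σ : Perm {y // y ∈ Finset.univ.filter fun y => f y = f x} =>
        (σ ⟨x, by simp⟩ : α)) (congrFun hgh (f x))
    have := Subgroup.card_dvd_of_injective F hF
    rw [Nat.card_pi] at this
    refine this.trans (dvd_of_eq (Finset.prod_congr rfl fun i _ => ?_))
    rw [Nat.card_perm, Nat.card_eq_fintype_card, Fintype.card_coe]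

/-- `(c b)! = c! (b!)^c ∏ ((j+1) b - 1).choose (b - 1)`. -/
theorem factorial_mul_eq (b c : ℕ) :
    (c * (b + 1)).factorial = c.factorial * (b + 1).factorial ^ c *
      ∏ j ∈ Finset.range c, ((j + 1) * (b + 1) - 1).choose b := by
  induction c with
  | zero => simp
  | succ c ih =>
    have h1 : ((c + 1) * (b + 1)).choose (b + 1) = (c + 1) * ((c + 1) * (b + 1) - 1).choose b := by
      have := Nat.add_one_mul_choose_eq ((c + 1) * (b + 1) - 1) b
      rw [Nat.sub_add_cancel (Nat.mul_pos (by omega) (by omega))] at this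
      apply Nat.eq_of_mul_eq_mul_right (Nat.succ_pos b)
      rw [← this, Nat.succ_eq_add_one]; ring
    rw [← Nat.choose_mul_factorial_mul_factorial
      (Nat.le_mul_of_pos_left (b + 1) (by omega : 0 < c + 1)), h1,
      show (c + 1) * (b + 1) - (b + 1) = c * (b + 1) by rw [Nat.succ_mul, Nat.add_sub_cancel],
      ih, Finset.prod_range_succ, Nat.factorial_succ c, pow_succ]
    ring

/-- The fibre map of a block. -/
theorem exists_fibres {H : Subgroup (Perm α)} [MulAction.IsPretransitive H α] {B : Set α}
    (hB : MulAction.IsBlock H B) (hne : B.Nonempty) :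
    ∃ f : α → Finset α, H ≤ fibStab f ∧ (∀ x, x ∈ f x) ∧ (∀ x y, y ∈ f x → f y = f x) ∧
      ∀ x, (f x).card = B.ncard := by
  classical
  obtain ⟨a, ha⟩ := hne
  choose gx hgx using fun x => MulAction.exists_smul_eq H a x
  let f : α → Finset α := fun x => B.toFinite.toFinset.image ((gx x : H) : Perm α)
  have hmem : ∀ x y, y ∈ f x ↔ y ∈ gx x • B := fun x y => by
    simp [f, Set.mem_smul_set, Subgroup.smul_def]
  have hkey : ∀ x y (g : H), y ∈ g • B → (gx y • B = g • B) ∧ (y ∈ gx x • B → gx x • B = g • B) := by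
    intro x y g hy
    refine ⟨?_, fun hx => ?_⟩
    · exact hB.smul_eq_smul_of_nonempty ⟨y, ⟨a, ha, hgx y⟩, hy⟩
    · exact hB.smul_eq_smul_of_nonempty ⟨y, hx, hy⟩
  have hfeq : ∀ x y, f x = f y ↔ gx x • B = gx y • B := fun x y => by
    rw [Finset.ext_iff, Set.ext_iff]
    simp only [hmem]
  refine ⟨f, fun g hg x y => ?_, fun x => (hmem x x).2 ⟨a, ha, hgx x⟩,
    fun x y hy => (hfeq y x).2 (hkey x y _ ((hmem x y).1 hy)).1, fun x => ?_⟩
  · have hg' : ∀ x, gx (g x) • B = (⟨g, hg⟩ : H) • gx x • B := fun x => by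
      rw [← mul_smul]
      refine (hkey x (g x) _ ⟨a, ha, ?_⟩).1
      show ((⟨g, hg⟩ : H) * gx x) • a = g x
      rw [mul_smul, hgx x]
      rfl
    rw [hfeq, hfeq, hg', hg', smul_left_cancel_iff]
  · rw [Finset.card_image_of_injective _ (Equiv.injective _), Set.ncard_eq_toFinset_card _ B.toFinite]

/-- **Imprimitive Hall subgroups.** -/
theorem hall_blocks {π : Set ℕ} {H T : Subgroup (Perm α)} (h : Cfsg.IsPiHallOf π H T) (hT : IsT T)
    [MulAction.IsPretransitive H α] [Nontrivial α] (himp : ¬ MulAction.IsPreprimitive H α) :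
    ∃ b c : ℕ, 2 ≤ b ∧ 2 ≤ c ∧ Fintype.card α = c * b ∧
      (∀ p : ℕ, p.Prime → p ∈ π → ∀ j, 2 ≤ j → j ≤ c → ¬ p ∣ (j * b - 1).choose (b - 1)) ∧
      ∃ s : Finset α, s.card = b ∧ (c = 2 → H ≤ fibStab fun x => decide (x ∈ s)) ∧
        Cfsg.IsPiHallOf π (image (H ⊓ stabP s) s) (⊤ : Subgroup (Perm {x // x ∈ s})) := by
  classical
  obtain ⟨B, hB, hnt⟩ : ∃ B : Set α, MulAction.IsBlock H B ∧ ¬ MulAction.IsTrivialBlock B := by
    by_contra hno
    push Not at hno
    exact himp ⟨fun {B} hB => hno B hB⟩
  rw [MulAction.IsTrivialBlock, not_or, Set.not_subsingleton_iff] at hnt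
  obtain ⟨f, hHW, hself, hcls, hcard⟩ := exists_fibres hB hnt.1.nonempty
  set b := B.ncard with hb
  have hb2 : 2 ≤ b := by
    obtain ⟨u, hu, v, hv, huv⟩ := hnt.1
    exact (Set.one_lt_ncard B.toFinite).2 ⟨u, hu, v, hv, huv⟩
  let β := {F : Finset α // F ∈ Finset.univ.image f}
  let f' : α → β := fun x => ⟨f x, Finset.mem_image_of_mem _ (Finset.mem_univ x)⟩
  have hf' : Function.Surjective f' := by
    rintro ⟨F, hF⟩
    obtain ⟨x, -, rfl⟩ := Finset.mem_image.1 hF
    exact ⟨x, rfl⟩
  have hW : fibStab f' = fibStab f := by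
    ext g
    exact forall₂_congr fun x y => iff_congr Subtype.ext_iff Subtype.ext_iff
  have hfib : ∀ i : β, (Finset.univ.filter fun x => f' x = i) = (i : Finset α) := fun i => by
    obtain ⟨x, rfl⟩ := hf' i
    ext y
    simp only [Finset.mem_filter, Finset.mem_univ, true_and]
    exact ⟨fun e => (congrArg Subtype.val e : f y = f x) ▸ hself y, fun hy => Subtype.ext (hcls x y hy)⟩
  have hfib' : ∀ i : β, (i : Finset α).card = b := fun i => by
    obtain ⟨x, rfl⟩ := hf' i
    exact hcard x
  set c := Fintype.card β with hc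
  have hn : Fintype.card α = c * b := by
    rw [← Finset.card_univ, Finset.card_eq_sum_card_fiberwise
      (f := f') (t := Finset.univ) (fun x _ => Finset.mem_univ _)]
    simp [hfib, hfib', hc]
  have hc2 : 2 ≤ c := by
    by_contra hlt
    apply hnt.2
    refine Set.eq_of_subset_of_ncard_le (Set.subset_univ _) ?_
    rw [Set.ncard_univ, Nat.card_eq_fintype_card, hn, ← hb]
    rcases (by omega : c = 0 ∨ c = 1) with e | e <;> simp [e]
  obtain ⟨a⟩ : Nonempty α := inferInstance
  have hswap : ∀ {x y : α}, f x = f y → swap x y ∈ fibStab f := fun {x y} e => fibStab_of_eq fun z => by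
    rw [swap_apply_def]
    split_ifs with h1 h2
    · subst h1; exact e.symm
    · subst h2; exact e
    · rfl
  obtain ⟨u, hu, v, hv, huv⟩ := Finset.one_lt_card.1 (show 1 < (f a).card by rw [hcard]; omega)
  have hsup : T ⊔ fibStab f = ⊤ :=
    sup_eq_top hT (hswap ((hcls a u hu).trans (hcls a v hv).symm)) (Perm.sign_swap huv)
  refine ⟨b, c, hb2, hc2, hn, fun p hp hpi j hj2 hjc hd =>
    not_dvd_index h hT hHW hsup hp hpi ?_, f a, hcard a, fun h2 => hHW.trans fun g hg x y => ?_, ?_⟩
  · have h1 := card_fibStab_dvd hf'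
    simp only [hfib, hfib', Finset.prod_const, Finset.card_univ, ← hc] at h1
    rw [hW] at h1
    obtain ⟨d, hd'⟩ := h1
    have h2 := (fibStab f).index_mul_card
    rw [Nat.card_perm, Nat.card_eq_fintype_card (α := α), hn] at h2
    obtain ⟨b', hb'⟩ : ∃ b', b = b' + 1 := ⟨b - 1, by omega⟩
    rw [hb', factorial_mul_eq, ← hb', hd'] at h2
    obtain ⟨j', rfl⟩ : ∃ j', j = j' + 1 := ⟨j - 1, by omega⟩
    have h3 : p ∣ ∏ i ∈ Finset.range c, ((i + 1) * b - 1).choose (b - 1) :=
      hd.trans (Finset.dvd_prod_of_mem (fun i => ((i + 1) * b - 1).choose (b - 1))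
        (Finset.mem_range.2 hjc))
    rw [show b - 1 = b' by omega] at h3
    exact h3.trans ⟨d, Nat.eq_of_mul_eq_mul_right (Nat.card_pos (α := fibStab f))
      (by rw [h2]; ring)⟩
  · have key : ∀ x y, f x = f y ↔ (x ∈ f a ↔ y ∈ f a) := by
      intro x y
      refine ⟨fun e => ⟨fun hx => ?_, fun hy => ?_⟩, fun e => ?_⟩
      · rw [← hcls a x hx, e]; exact hself y
      · rw [← hcls a y hy, ← e]; exact hself x
      · by_cases hx : x ∈ f a
        · rw [hcls a x hx, hcls a y (e.1 hx)]
        · by_contra hne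
          have hy : y ∉ f a := fun hy => hx (e.2 hy)
          have h3 : ({f' a, f' x, f' y} : Finset β).card = 3 := Finset.card_eq_three.2
            ⟨f' a, f' x, f' y, fun e' => hx (by have e2 : f a = f x := congrArg Subtype.val e'; rw [e2]; exact hself x),
              fun e' => hy (by have e2 : f a = f y := congrArg Subtype.val e'; rw [e2]; exact hself y),
              fun e' => hne (congrArg Subtype.val e'), rfl⟩
          have := ({f' a, f' x, f' y} : Finset β).card_le_univ
          omega
    rw [decide_eq_decide, decide_eq_decide, ← key, ← key]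
    exact hg x y
  · set K := T ⊓ fibStab f
    have hHK : Cfsg.IsPiHallOf π H K := hallOf_of_le h (le_inf h.1 hHW) inf_le_left
    have hidx : ∀ X : Subgroup (Perm α), H ≤ X → X ≤ fibStab f → (stabP (f a)).relIndex X = c := by
      intro X hHX hXW
      letI : MulAction X β :=
        MulAction.compHom β ((indPerm hf').comp (Subgroup.inclusion (hXW.trans hW.ge)))
      have hsm : ∀ (g : X) (x : α), g • f' x = f' ((g : Perm α) x) := fun g x =>
        indPerm_apply hf' _ x
      haveI : MulAction.IsPretransitive X β := ⟨fun i k => by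
        obtain ⟨x, rfl⟩ := hf' i
        obtain ⟨y, rfl⟩ := hf' k
        obtain ⟨g, hg⟩ := MulAction.exists_smul_eq H x y
        exact ⟨⟨g, hHX g.2⟩, (hsm _ x).trans (congrArg f' hg)⟩⟩
      have hst : MulAction.stabilizer X (f' a) = (stabP (f a)).subgroupOf X := by
        ext g
        rw [MulAction.mem_stabilizer_iff, hsm, Subgroup.mem_subgroupOf]
        constructor
        · intro e
          have e' : f ((g : Perm α) a) = f a := congrArg Subtype.val e
          refine mem_stabP_of_imp fun x hx => ?_
          have := (hXW g.2 x a).2 (hcls a x hx)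
          exact e' ▸ this ▸ hself _
        · intro hg
          exact Subtype.ext (hcls a _ ((hg a).2 (hself a)))
      rw [Subgroup.relIndex, ← hst, MulAction.index_stabilizer_of_transitive,
        Nat.card_eq_fintype_card]
    have hHS : Cfsg.IsPiHallOf π (H ⊓ stabP (f a)) (K ⊓ stabP (f a)) :=
      hallOf_inf hHK ((hidx H le_rfl hHW).trans (hidx K hHK.1 inf_le_right).symm)
    have h1 := hallOf_map (hallOf_subgroupOf hHS inf_le_right) (res (f a))
    have htop : ((K ⊓ stabP (f a)).subgroupOf (stabP (f a))).map (res (f a)) = ⊤ := by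
      refine eq_top_iff.2 fun σ _ => ?_
      have hs : Perm.ofSubtype σ ∈ stabP (f a) := mem_stabP_of_imp fun x hx => by
        rw [Perm.ofSubtype_apply_of_mem σ hx]; exact (σ ⟨x, hx⟩).2
      have hw : Perm.ofSubtype σ ∈ fibStab f := fibStab_of_eq fun x => by
        by_cases hx : x ∈ f a
        · rw [Perm.ofSubtype_apply_of_mem σ hx, hcls a x hx, hcls a _ (σ ⟨x, hx⟩).2]
        · rw [Perm.ofSubtype_apply_of_not_mem σ hx]
      rcases Int.units_eq_one_or (Perm.sign (Perm.ofSubtype σ)) with e | e
      · exact ⟨⟨_, hs⟩, ⟨⟨hT.alt_le (Perm.mem_alternatingGroup.2 e), hw⟩, hs⟩, by ext x; simp⟩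
      · obtain ⟨z, hz⟩ : ∃ z, z ∉ f a := by
          by_contra hall
          push Not at hall
          have := Finset.eq_univ_of_forall hall
          have := congrArg Finset.card this
          rw [hcard, Finset.card_univ, hn] at this
          nlinarith
        obtain ⟨y, hy, hyz⟩ := Finset.exists_mem_ne (show 1 < (f z).card by rw [hcard]; omega) z
        have hya : y ∉ f a := fun e => hz (by rw [← hcls a y e, hcls z y hy]; exact hself z)
        have hsw : swap y z ∈ stabP (f a) := swap_mem_stabP (by simp [hya, hz])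
        refine ⟨⟨_, mul_mem hs hsw⟩, ⟨⟨hT.alt_le (Perm.mem_alternatingGroup.2 ?_),
          mul_mem hw (hswap (hcls z y hy))⟩, mul_mem hs hsw⟩, ?_⟩
        · show Perm.sign (Perm.ofSubtype σ * swap y z) = 1
          rw [map_mul, Perm.sign_swap hyz, e]; rfl
        · ext x
          have : swap y z (x : α) = x :=
            swap_apply_of_ne_of_ne (fun e => hya (e ▸ x.2)) (fun e => hz (e ▸ x.2))
          simp [this]
    rwa [htop] at h1

end Cfsg.Agent.GenA.AltHall
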