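import Cfsg.Agent.GenA.AltHall.Basic
import Cfsg.Agent.S0713
import Cfsg.Agent.Lib.Perm.PrimeDegree
import Cfsg.Agent.Lib.Characters.Burnside
import Mathlib.GroupTheory.GroupAction.Jordan
import Mathlib.GroupTheory.Solvable

/-!
# Primitive Hall subgroups of symmetric and alternating groups

No primitive Hall `π`-subgroup exists unless it contains the alternating group, when `2` and `3`
are not both in `π`.
-/

set_option autoImplicit false

namespace Cfsg.Agent.GenA.AltHall

open Equiv

variable {α : Type*} [Fintype α] [DecidableEq α]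

theorem mem_pi_and_le {π : Set ℕ} {H T : Subgroup (Perm α)} (h : Cfsg.IsPiHallOf π H T) {r : ℕ}
    (hr : r.Prime) (hd : r ∣ Nat.card H) : r ∈ π ∧ r ≤ Fintype.card α := by
  refine ⟨h.2.1 r hr hd, hr.dvd_factorial.1 ?_⟩
  have := hd.trans H.card_subgroup_dvd_card
  rwa [Nat.card_perm, Nat.card_eq_fintype_card] at this

theorem card_dvd_of_transitive (H : Subgroup (Perm α)) [MulAction.IsPretransitive H α] (a : α) :
    Fintype.card α ∣ Nat.card H := by
  have := (MulAction.stabilizer H a).index_dvd_card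
  rwa [MulAction.index_stabilizer_of_transitive, Nat.card_eq_fintype_card] at this

theorem dvd_card_of_alt_le {H : Subgroup (Perm α)} (hA : alternatingGroup α ≤ H) {r : ℕ}
    (hr : r.Prime) (h4 : 4 ≤ Fintype.card α) (hr3 : r ≤ 3) : r ∣ Nat.card H := by
  refine Dvd.dvd.trans ?_ (Subgroup.card_dvd_of_le hA)
  haveI : Nontrivial α := Fintype.one_lt_card_iff_nontrivial.1 (by omega)
  have h2 : 2 * Fintype.card (alternatingGroup α) = Fintype.card (Perm α) :=
    two_mul_card_alternatingGroup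
  rw [Fintype.card_perm] at h2
  obtain ⟨k, hk⟩ : Nat.factorial 4 ∣ (Fintype.card α).factorial := Nat.factorial_dvd_factorial h4
  rw [show Nat.factorial 4 = 24 from rfl] at hk
  have : Fintype.card (alternatingGroup α) = 12 * k := by omega
  rw [Nat.card_eq_fintype_card, this]
  have := hr.two_le
  interval_cases r
  · exact Dvd.intro (6 * k) (by ring)
  · exact Dvd.intro (4 * k) (by ring)

/-- The Jordan bound for the primes of `π`. -/
theorem jordan_bound {π : Set ℕ} {H T : Subgroup (Perm α)} (h : Cfsg.IsPiHallOf π H T) (hT : IsT T)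
    (hprim : MulAction.IsPreprimitive H α) (h23 : ¬ (2 ∈ π ∧ 3 ∈ π))
    (htwo : 2 ∈ π ∨ ∃ p q : ℕ, p.Prime ∧ q.Prime ∧ p ∈ π ∧ q ∈ π ∧ p < q ∧ q ≤ Fintype.card α)
    {r : ℕ} (hr : r.Prime) (hr2 : r ≠ 2) (hrpi : r ∈ π) (hrn : r ≤ Fintype.card α) :
    5 ≤ r ∧ Fintype.card α < r + 3 := by
  have key : ∀ (H' : Subgroup (Perm α)), H' = H → alternatingGroup α ≤ H' → False := by
    rintro _ rfl hA
    by_cases h4 : 4 ≤ Fintype.card α
    · exact h23 ⟨(mem_pi_and_le h Nat.prime_two (dvd_card_of_alt_le hA Nat.prime_two h4 (by norm_num))).1,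
        (mem_pi_and_le h Nat.prime_three (dvd_card_of_alt_le hA Nat.prime_three h4 le_rfl)).1⟩
    · have hr3 : r = 3 := by
        have := hr.two_le; omega
      subst hr3
      rcases htwo with h2 | ⟨p, q, hp, hq, hpp, -, hpq, hqn⟩
      · exact h23 ⟨h2, hrpi⟩
      · have := hp.two_le
        have : p = 2 := by omega
        exact h23 ⟨this ▸ hpp, hrpi⟩
  obtain ⟨g, hgH, hgc, hgs⟩ := exists_cycle h hT hr hrpi hrn (Or.inr hr2)
  have h5 : 5 ≤ r := by
    by_contra h5
    have hr3 : r = 3 := by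
      have := hr.two_le
      rcases (by omega : r = 3 ∨ r = 4) with e | e
      · exact e
      · subst e; norm_num at hr
    exact key H rfl (Perm.alternatingGroup_le_of_isPreprimitive_of_isThreeCycle_mem hprim
      (card_support_eq_three_iff.1 (hgs.trans hr3)) hgH)
  refine ⟨h5, ?_⟩
  by_contra hlt
  exact key H rfl (Cfsg.Agent.S0713.result H hprim hr (by omega) (by omega) hgc hgs hgH)

/-- Four points give a four group in the alternating group. -/
theorem exists_two_involutions {π : Set ℕ} {H T : Subgroup (Perm α)} (h : Cfsg.IsPiHallOf π H T)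
    (hT : IsT T) (h2 : 2 ∈ π) (h4 : 4 ≤ Fintype.card α) :
    ∃ x ∈ H, ∃ y ∈ H, x ≠ 1 ∧ y ≠ 1 ∧ x ≠ y ∧ x * x = 1 ∧ y * y = 1 ∧ Commute x y := by
  obtain ⟨e⟩ : Nonempty (Fin 4 ↪ α) := Function.Embedding.nonempty_of_card_le (by simpa)
  set x : Perm α := swap (e 0) (e 1) * swap (e 2) (e 3) with hx
  set y : Perm α := swap (e 0) (e 2) * swap (e 1) (e 3) with hy
  have lift : ∀ σ : Perm (Fin 4), Perm α := fun σ => σ.viaFintypeEmbedding e
  let φ : Perm (Fin 4) →* Perm α := Perm.extendDomainHom (e.toEquivRange)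
  have hsw : ∀ i j : Fin 4, φ (swap i j) = swap (e i) (e j) := fun i j => by
    show (swap i j).viaFintypeEmbedding e = _
    ext z
    by_cases hz : z ∈ Set.range e
    · obtain ⟨k, rfl⟩ := hz
      rw [Perm.viaFintypeEmbedding_apply_image, e.swap_apply]
    · rw [Perm.viaFintypeEmbedding_apply_notMem_range _ _ hz, swap_apply_of_ne_of_ne
        (fun e' => hz ⟨i, e'.symm⟩) (fun e' => hz ⟨j, e'.symm⟩)]
  have hxe : x = φ (swap 0 1 * swap 2 3) := by rw [map_mul, hsw, hsw]
  have hye : y = φ (swap 0 2 * swap 1 3) := by rw [map_mul, hsw, hsw]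
  have hinj : Function.Injective φ := Perm.extendDomainHom_injective _
  have hxx : x * x = 1 := by
    rw [hxe, ← map_mul, show (swap (0 : Fin 4) 1 * swap 2 3) * (swap 0 1 * swap 2 3) = 1 by decide,
      map_one]
  have hyy : y * y = 1 := by
    rw [hye, ← map_mul, show (swap (0 : Fin 4) 2 * swap 1 3) * (swap 0 2 * swap 1 3) = 1 by decide,
      map_one]
  have hxy : Commute x y := by
    rw [Commute, SemiconjBy, hxe, hye, ← map_mul, ← map_mul]
    exact congrArg φ (by decide)
  have hxA : x ∈ T := hT.alt_le (Perm.mem_alternatingGroup.2 (by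
    simp [hx, Perm.sign_swap, e.injective.ne (show (0 : Fin 4) ≠ 1 by decide),
      e.injective.ne (show (2 : Fin 4) ≠ 3 by decide)]))
  have hyA : y ∈ T := hT.alt_le (Perm.mem_alternatingGroup.2 (by
    simp [hy, Perm.sign_swap, e.injective.ne (show (0 : Fin 4) ≠ 2 by decide),
      e.injective.ne (show (1 : Fin 4) ≠ 3 by decide)]))
  have hz : ∀ z : Perm α, z * z = 1 → IsPGroup 2 (Subgroup.zpowers z) := fun z hz =>
    IsPGroup.of_card_dvd_pow (n := 1) (p := 2) (by
      rw [Nat.card_zpowers, pow_one]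
      exact orderOf_dvd_of_pow_eq_one (by rwa [pow_two]))
  haveI : Fact (Nat.Prime 2) := ⟨Nat.prime_two⟩
  obtain ⟨t, -, ht⟩ := exists_conj_le h Nat.prime_two h2
    (sup_le (Subgroup.zpowers_le.2 hxA) (Subgroup.zpowers_le.2 hyA))
    ((hz x hxx).to_sup_of_normal_right' (hz y hyy) (fun g hg =>
      Subgroup.centralizer_le_normalizer _ (by
        rw [Subgroup.mem_centralizer_iff]
        obtain ⟨i, rfl⟩ := Subgroup.mem_zpowers_iff.1 hg
        rintro _ ⟨j, rfl⟩
        exact (hxy.symm.zpow_zpow j i).eq)))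
  refine ⟨_, ht x (Subgroup.mem_sup_left (Subgroup.mem_zpowers x)), _,
    ht y (Subgroup.mem_sup_right (Subgroup.mem_zpowers y)), ?_, ?_, ?_, ?_, ?_, (Commute.conj_iff t).2 hxy⟩
  · intro e1
    have : φ (swap 0 1 * swap 2 3) = φ 1 := by rw [← hxe, map_one, ← conj_eq_one_iff.1 e1]
    exact absurd (hinj this) (by decide)
  · intro e1
    have : φ (swap 0 2 * swap 1 3) = φ 1 := by rw [← hye, map_one, ← conj_eq_one_iff.1 e1]
    exact absurd (hinj this) (by decide)
  · intro e1
    have : φ (swap 0 1 * swap 2 3) = φ (swap 0 2 * swap 1 3) := by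
      rw [← hxe, ← hye]
      exact mul_left_cancel (mul_right_cancel e1)
    exact absurd (hinj this) (by decide)
  · rw [show t * x * t⁻¹ * (t * x * t⁻¹) = t * (x * x) * t⁻¹ by group, hxx, mul_one, mul_inv_cancel]
  · rw [show t * y * t⁻¹ * (t * y * t⁻¹) = t * (y * y) * t⁻¹ by group, hyy, mul_one, mul_inv_cancel]

/-- A soluble transitive group of odd prime degree has no four group. -/
theorem not_solvable {q : ℕ} (hq : q.Prime) (hqo : Odd q) (hn : Fintype.card α = q)
    (H : Subgroup (Perm α)) [MulAction.IsPretransitive H α] [Group.IsSolvable H]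
    (hv : ∃ x ∈ H, ∃ y ∈ H, x ≠ 1 ∧ y ≠ 1 ∧ x ≠ y ∧ x * x = 1 ∧ y * y = 1 ∧ Commute x y) :
    False := by
  classical
  obtain ⟨x, hx, y, hy, hx1, hy1, hxy, hxx, hyy, hc0⟩ := hv
  haveI := Fact.mk hq
  have hnN : Nat.card α = q := by rw [Nat.card_eq_fintype_card, hn]
  haveI hprim : MulAction.IsPreprimitive H α :=
    MulAction.IsPreprimitive.of_prime_card (by rwa [hnN])
  have hne : ∃ k, derivedSeries H k = ⊥ := Group.IsSolvable.solvable
  obtain ⟨k, hk⟩ : ∃ k, Nat.find hne = k + 1 := by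
    refine ⟨Nat.find hne - 1, ?_⟩
    rcases Nat.eq_zero_or_pos (Nat.find hne) with h0 | h0
    · have := Nat.find_spec hne
      rw [h0, derivedSeries_zero] at this
      have h0x : (⟨x, hx⟩ : H) ∈ (⊥ : Subgroup H) := this ▸ Subgroup.mem_top _
      exact absurd (congrArg Subtype.val (Subgroup.mem_bot.1 h0x)) hx1
    · omega
  set N := derivedSeries H k with hN
  have hNb : ⁅N, N⁆ = ⊥ := by
    have := Nat.find_spec hne
    rwa [hk, derivedSeries_succ] at this
  have hNne : N ≠ ⊥ := Nat.find_min hne (by omega)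
  haveI : N.Normal := derivedSeries_normal (G := H) k
  have hcomm : ∀ a ∈ N, ∀ b ∈ N, Commute a b := fun a ha b hb =>
    (Subgroup.mem_centralizer_iff.1 (Subgroup.commutator_eq_bot_iff_le_centralizer.1 hNb hb) a ha)
  haveI hNt : MulAction.IsPretransitive N α := by
    refine MulAction.IsQuasiPreprimitive.isPretransitive_of_normal fun e => hNne ?_
    refine (Subgroup.eq_bot_iff_forall _).2 fun a ha => Subtype.ext (Equiv.ext fun z => ?_)
    have : z ∈ MulAction.fixedPoints N α := e ▸ Set.mem_univ z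
    exact this ⟨a, ha⟩
  -- what commutes with `N` and fixes a point is trivial
  have hfix : ∀ g : H, (∀ a ∈ N, Commute g a) → ∀ u : α, (g : Perm α) u = u → g = 1 := by
    intro g hg u hu
    refine Subtype.ext (Equiv.ext fun v => ?_)
    obtain ⟨⟨a, ha⟩, rfl⟩ := MulAction.exists_smul_eq N u v
    show (g : Perm α) ((a : Perm α) u) = (a : Perm α) u
    have := congrArg (fun σ : H => (σ : Perm α) u) (hg a ha).eq
    simp only [Subgroup.coe_mul, Perm.mul_apply] at this
    rw [this, hu]
  obtain ⟨u⟩ : Nonempty α := Fintype.card_pos_iff.1 (hn ▸ hq.pos)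
  have hNcard : Nat.card N = q := by
    rw [← hnN]
    refine Nat.card_eq_of_bijective (fun a : N => a • u)
      ⟨fun a b hab => ?_, fun v => MulAction.exists_smul_eq N u v⟩
    have hab' : a • u = b • u := hab
    have h1 : (a⁻¹ * b : N) • u = u := by rw [mul_smul, ← hab', inv_smul_smul]
    have := hfix ((a⁻¹ * b : N) : H) (fun c hc => hcomm _ (a⁻¹ * b).2 _ hc) u h1
    exact (inv_mul_eq_one.1 (Subtype.ext this))
  -- an involution inverts `N`
  have hinv : ∀ z : H, z ≠ 1 → z * z = 1 → ∀ a ∈ N, z * a * z⁻¹ = a⁻¹ := by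
    intro z hz1 hzz a ha
    have hzi : z⁻¹ = z := inv_eq_of_mul_eq_one_right hzz
    have hconj : z * a * z⁻¹ ∈ N := Subgroup.Normal.conj_mem inferInstance a ha z
    set w := z * a * z⁻¹ * a with hw
    have hwN : w ∈ N := mul_mem hconj ha
    by_contra hne'
    have hw1 : w ≠ 1 := fun e => hne' (mul_eq_one_iff_eq_inv.1 e)
    have hgen : Subgroup.zpowers (⟨w, hwN⟩ : N) = ⊤ :=
      zpowers_eq_top_of_prime_card hNcard fun e => hw1 (congrArg Subtype.val e)
    have hzw : Commute z w := by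
      show z * w = w * z
      have h3 : z * w * z⁻¹ = w := by
        calc z * w * z⁻¹ = (z * z) * a * (z * z)⁻¹ * (z * a * z⁻¹) := by rw [hw]; group
          _ = a * (z * a * z⁻¹) := by rw [hzz]; group
          _ = w := (hcomm a ha _ hconj).eq
      calc z * w = z * w * z⁻¹ * z := by group
        _ = w * z := by rw [h3]
    obtain ⟨v, hv⟩ : ∃ v, (z : Perm α) v = v :=
      Perm.exists_fixed_point_of_prime (p := 2) (n := 1)
        (by rw [hn]; intro hd; exact (Nat.not_even_iff_odd.2 hqo) (even_iff_two_dvd.2 hd))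
        (by rw [pow_one, pow_two]; exact congrArg Subtype.val hzz)
    refine hz1 (hfix z (fun c hc => ?_) v hv)
    obtain ⟨i, hi⟩ := Subgroup.mem_zpowers_iff.1 (hgen ▸ Subgroup.mem_top (⟨c, hc⟩ : N))
    rw [show c = w ^ i from (congrArg Subtype.val hi).symm]
    exact hzw.zpow_right i
  set X : H := ⟨x, hx⟩
  set Y : H := ⟨y, hy⟩
  have hX1 : X ≠ 1 := fun e => hx1 (congrArg Subtype.val e)
  have hY1 : Y ≠ 1 := fun e => hy1 (congrArg Subtype.val e)
  have hYY : Y * Y = 1 := Subtype.ext hyy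
  have hXY : ∀ a ∈ N, Commute (X * Y) a := fun a ha => by
    show X * Y * a = a * (X * Y)
    have h1 := hinv Y hY1 hYY a ha
    have h2 := hinv X hX1 (Subtype.ext hxx) a⁻¹ (inv_mem ha)
    rw [inv_inv, ← h1] at h2
    calc X * Y * a = (X * (Y * a * Y⁻¹) * X⁻¹) * (X * Y) := by group
      _ = a * (X * Y) := by rw [h2]
  -- `X Y` has order two on an odd set
  have hcXY : X * Y = Y * X → False := fun hc => by
    obtain ⟨v, hv⟩ : ∃ v, ((X * Y : H) : Perm α) v = v :=
      Perm.exists_fixed_point_of_prime (p := 2) (n := 1)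
        (by rw [hn]; intro hd; exact (Nat.not_even_iff_odd.2 hqo) (even_iff_two_dvd.2 hd))
        (by
          rw [pow_one, pow_two, ← Subgroup.coe_mul, show X * Y * (X * Y) = 1 by
            rw [mul_assoc, ← mul_assoc Y, ← hc, mul_assoc, hYY, mul_one]; exact Subtype.ext hxx]
          rfl)
    have := hfix _ hXY v hv
    exact hxy (by
      have h4 := mul_eq_one_iff_eq_inv.1 this
      rw [inv_eq_of_mul_eq_one_right hYY] at h4
      exact congrArg Subtype.val h4)
  exact hcXY (Subtype.ext hc0.eq)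

/-- Two-transitive groups have order divisible by `n (n - 1)`. -/
theorem dvd_of_two_transitive (H : Subgroup (Perm α)) (h2 : MulAction.IsMultiplyPretransitive H α 2)
    (hn : 2 ≤ Fintype.card α) :
    Fintype.card α * (Fintype.card α - 1) ∣ Nat.card H := by
  obtain ⟨e⟩ : Nonempty (Fin 2 ↪ α) := Function.Embedding.nonempty_of_card_le (by simpa)
  haveI : MulAction.IsPretransitive H (Fin 2 ↪ α) := h2
  have := (MulAction.stabilizer H e).index_dvd_card
  rw [@MulAction.index_stabilizer_of_transitive _ _ _ _ e h2, Nat.card_eq_fintype_card, Fintype.card_embedding_eq,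
    Fintype.card_fin, Nat.descFactorial_succ, Nat.descFactorial_one] at this
  rwa [mul_comm]

/-- **Prime degree.** -/
theorem not_prime_degree {π : Set ℕ} {H T : Subgroup (Perm α)} (h : Cfsg.IsPiHallOf π H T)
    (hT : IsT T) [MulAction.IsPretransitive H α] {q : ℕ} (hq : q.Prime) (hq5 : 5 ≤ q)
    (hn : Fintype.card α = q) (hqpi : q ∈ π) (h23 : ¬ (2 ∈ π ∧ 3 ∈ π))
    (htwo : 2 ∈ π ∨ ∃ r : ℕ, r.Prime ∧ r ∈ π ∧ r < q) : False := by
  haveI := Fact.mk hq
  have hnN : Nat.card α = q := by rw [Nat.card_eq_fintype_card, hn]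
  have hprim : MulAction.IsPreprimitive H α :=
    MulAction.IsPreprimitive.of_prime_card (by rwa [hnN])
  have htwo' : 2 ∈ π ∨ ∃ p r : ℕ, p.Prime ∧ r.Prime ∧ p ∈ π ∧ r ∈ π ∧ p < r ∧
      r ≤ Fintype.card α := htwo.imp_right fun ⟨r, hr, hrp, hrq⟩ =>
        ⟨r, q, hr, hq, hrp, hqpi, hrq, hn.ge⟩
  by_cases hex : ∃ r, r.Prime ∧ r ∈ π ∧ r < q ∧ r ≠ 2
  · -- a second odd prime: twins
    obtain ⟨r, hr, hrpi, hrq, hr2⟩ := hex
    obtain ⟨hr5, hrb⟩ := jordan_bound h hT hprim h23 htwo' hr hr2 hrpi (by omega)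
    have hrodd := hr.odd_of_ne_two hr2
    have hqodd := hq.odd_of_ne_two (by omega)
    obtain ⟨a, ha⟩ := hrodd
    obtain ⟨b, hb⟩ := hqodd
    have hqr : q = r + 2 := by omega
    have h6 : 6 ∣ r + 1 := by
      have h3r : r % 3 ≠ 0 := fun e => by
        rcases hr.eq_one_or_self_of_dvd 3 (Nat.dvd_of_mod_eq_zero e) with h' | h' <;> omega
      have h3q : q % 3 ≠ 0 := fun e => by
        rcases hq.eq_one_or_self_of_dvd 3 (Nat.dvd_of_mod_eq_zero e) with h' | h' <;> omega
      have h3 : (r + 1) % 3 = 0 := by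
        rw [hqr, Nat.add_mod] at h3q
        rw [Nat.add_mod]
        rcases (show r % 3 = 1 ∨ r % 3 = 2 by omega) with e | e <;> simp [e] at h3q ⊢
      have h2 : (r + 1) % 2 = 0 := by omega
      omega
    obtain ⟨g, hgH, hgc, hgs⟩ := exists_cycle h hT hr hrpi (by omega) (Or.inr hr2)
    obtain ⟨e, t, -, ht⟩ := Cfsg.Agent.Perm.PrimeDegree.exists_coord hnN H
    rcases Cfsg.Agent.Perm.PrimeDegree.two_transitive_or_affine H e t ht with h2 | haff
    · have hd := dvd_of_two_transitive H h2 (by omega)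
      rw [hn, show q - 1 = r + 1 by omega] at hd
      have h6' : 6 ∣ Nat.card H := (dvd_mul_of_dvd_right h6 q).trans hd
      exact h23 ⟨h.2.1 2 Nat.prime_two ((by norm_num : 2 ∣ 6).trans h6'),
        h.2.1 3 Nat.prime_three ((by norm_num : 3 ∣ 6).trans h6')⟩
    · obtain ⟨A, B, -, hAB⟩ := haff ⟨g, hgH⟩
      have hc : g.supportᶜ.card = 2 := by rw [Finset.card_compl, hgs]; omega
      obtain ⟨u, v, huv, huvs⟩ := Finset.card_eq_two.1 hc
      have hfix : ∀ z ∈ ({u, v} : Finset α), g z = z := fun z hz => by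
        rw [← huvs, Finset.mem_compl, Perm.notMem_support] at hz
        exact hz
      have he : ∀ z, g z = z → A * e.symm z + B = e.symm z := fun z hz => e.injective (by
        rw [← hAB, e.apply_symm_apply]; exact hz)
      have hu := he u (hfix u (by simp))
      have hv := he v (hfix v (by simp))
      have hA : A = 1 := by
        have hm : (A - 1) * (e.symm u - e.symm v) = 0 := by linear_combination hu - hv
        rcases mul_eq_zero.1 hm with h0 | h0
        · exact sub_eq_zero.1 h0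
        · exact absurd (e.symm.injective (sub_eq_zero.1 h0)) huv
      have hB : B = 0 := by rw [hA] at hu; simpa using hu
      apply hgc.ne_one
      ext z
      have := hAB (e.symm z)
      simp only [hA, hB, one_mul, add_zero, e.apply_symm_apply] at this
      exact this
  · -- two primes: soluble
    push Not at hex
    have h2 : 2 ∈ π := htwo.elim id fun ⟨r, hr, hrp, hrq⟩ => hex r hr hrp hrq ▸ hrp
    have hcardH : ∃ a b : ℕ, Nat.card H = 2 ^ a * q ^ b := by
      obtain ⟨a, m, hm, hc⟩ := Nat.exists_eq_pow_mul_and_not_dvd (Nat.card_pos (α := H)).ne' 2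
        (by norm_num)
      refine ⟨a, m.primeFactorsList.length, ?_⟩
      rw [hc]
      congr 1
      refine Nat.eq_prime_pow_of_unique_prime_dvd (by rintro rfl; simp at hm) fun {d} hd hdm => ?_
      obtain ⟨hdpi, hdn⟩ := mem_pi_and_le h hd (hc ▸ dvd_mul_of_dvd_right hdm _)
      by_contra hne
      exact hm (hex d hd hdpi (lt_of_le_of_ne (hn ▸ hdn) hne) ▸ hdm)
    obtain ⟨a, b, hab⟩ := hcardH
    haveI := Cfsg.Agent.Characters.burnside_pa_qb Nat.prime_two hq hab
    exact not_solvable hq (hq.odd_of_ne_two (by omega)) hn H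
      (exists_two_involutions h hT h2 (by omega))

/-- The point stabiliser of a transitive Hall subgroup. -/
theorem hall_point {π : Set ℕ} {H T : Subgroup (Perm α)} (h : Cfsg.IsPiHallOf π H T) (hT : IsT T)
    [MulAction.IsPretransitive H α] (a : α) (s : Finset α) (hs : s = Finset.univ.erase a) :
    ∃ T' : Subgroup (Perm {x // x ∈ s}), IsT T' ∧
      Cfsg.IsPiHallOf π (image (H ⊓ stabP s) s) T' := by
  have hidx : ∀ X : Subgroup (Perm α), H ≤ X →
      (stabP s).relIndex X = Fintype.card α := by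
    intro X hX
    haveI : MulAction.IsPretransitive X α := ⟨fun x y => by
      obtain ⟨g, hg⟩ := MulAction.exists_smul_eq H x y
      exact ⟨⟨g, hX g.2⟩, hg⟩⟩
    have hst : MulAction.stabilizer X a = (stabP s).subgroupOf X := by
      ext g
      simp only [hs, MulAction.mem_stabilizer_iff, Subgroup.mem_subgroupOf, mem_stabP, Finset.mem_erase,
        Finset.mem_univ, and_true, Subgroup.smul_def, Perm.smul_def]
      constructor
      · exact fun e x => not_congr ⟨fun e' => (g : Perm α).injective (e'.trans e.symm),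
          fun e' => e' ▸ e⟩
      · intro hx
        by_contra hne
        exact (hx a).1 hne rfl
    rw [Subgroup.relIndex, ← hst, MulAction.index_stabilizer_of_transitive, Nat.card_eq_fintype_card]
  obtain ⟨T', hT', hh, -, -⟩ := hall_image'
    (hallOf_inf h ((hidx H le_rfl).trans (hidx T h.1).symm)) hT
  exact ⟨T', hT', hh⟩

/-- **No primitive Hall subgroup without `2` and `3`.** -/
theorem not_primitive {π : Set ℕ} {H T : Subgroup (Perm α)} (h : Cfsg.IsPiHallOf π H T) (hT : IsT T)
    (hprim : MulAction.IsPreprimitive H α) (h23 : ¬ (2 ∈ π ∧ 3 ∈ π)) {q : ℕ} (hq : q.Prime)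
    (hq2 : q ≠ 2) (hqpi : q ∈ π) (hqn : q ≤ Fintype.card α)
    (htwo : 2 ∈ π ∨ ∃ r : ℕ, r.Prime ∧ r ∈ π ∧ r < q) : False := by
  have htwo' : 2 ∈ π ∨ ∃ p r : ℕ, p.Prime ∧ r.Prime ∧ p ∈ π ∧ r ∈ π ∧ p < r ∧
      r ≤ Fintype.card α := htwo.imp_right fun ⟨r, hr, hrp, hrq⟩ =>
        ⟨r, q, hr, hq, hrp, hqpi, hrq, hqn⟩
  obtain ⟨hq5, hqb⟩ := jordan_bound h hT hprim h23 htwo' hq hq2 hqpi hqn
  have hqo := hq.odd_of_ne_two hq2
  obtain ⟨k, hk⟩ := hqo
  obtain ⟨a⟩ : Nonempty α := Fintype.card_pos_iff.1 (by omega)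
  -- a prime divisor of the degree lies in `π`
  have hdiv : ∀ r : ℕ, r.Prime → r ≠ 2 → r ∣ Fintype.card α → r = Fintype.card α ∧ r ∈ π := by
    intro r hr hr2 hd
    have hrpi := (mem_pi_and_le h hr (hd.trans (card_dvd_of_transitive H a))).1
    have hle := Nat.le_of_dvd (by omega) hd
    obtain ⟨h5, hb⟩ := jordan_bound h hT hprim h23 htwo' hr hr2 hrpi hle
    obtain ⟨c, hc⟩ := hd
    refine ⟨?_, hrpi⟩
    rcases c with _ | _ | c
    · omega
    · omega
    · nlinarith
  rcases (by omega : Fintype.card α = q ∨ Fintype.card α = q + 1 ∨ Fintype.card α = q + 2) with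
    hn | hn | hn
  · exact not_prime_degree h hT hq hq5 hn hqpi h23 htwo
  · by_cases h2 : 2 ∈ π
    · obtain ⟨s, hs⟩ : ∃ s : Finset α, s = Finset.univ.erase a := ⟨_, rfl⟩
      obtain ⟨T', hT', hh⟩ := hall_point h hT a s hs
      have hc : Fintype.card {x // x ∈ s} = q := by
        rw [Fintype.card_coe, hs, Finset.card_erase_of_mem (Finset.mem_univ _), Finset.card_univ]
        omega
      obtain ⟨g, hgH, hgc, hgs⟩ := exists_cycle hh hT' hq hqpi hc.ge (Or.inr hq2)
      haveI : MulAction.IsPretransitive (image (H ⊓ stabP s) s) {x // x ∈ s} := ⟨fun x y => by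
        have hall : ∀ z, g z ≠ z := fun z => Perm.mem_support.1 (by
          rw [Finset.eq_univ_of_card g.support (hgs.trans hc.symm)]; exact Finset.mem_univ z)
        obtain ⟨i, hi⟩ := hgc.exists_zpow_eq (hall x) (hall y)
        exact ⟨⟨g ^ i, zpow_mem hgH i⟩, hi⟩⟩
      exact not_prime_degree hh hT' hq hq5 hc hqpi h23 (Or.inl h2)
    · exact h2 (h.2.1 2 Nat.prime_two
        ((by omega : 2 ∣ Fintype.card α).trans (card_dvd_of_transitive H a)))
  · set r := (Fintype.card α).minFac with hr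
    have hrp : r.Prime := Nat.minFac_prime (by omega)
    have hr2 : r ≠ 2 := fun e => by
      have := Nat.minFac_dvd (Fintype.card α)
      rw [← hr, e] at this
      omega
    obtain ⟨e, hrpi⟩ := hdiv r hrp hr2 (Nat.minFac_dvd _)
    exact not_prime_degree h hT hrp (by omega) e.symm hrpi h23
      (htwo.imp_right fun ⟨s, hs, hsp, hsq⟩ => ⟨s, hs, hsp, by omega⟩)

end Cfsg.Agent.GenA.AltHall
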