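import Cfsg.Agent.GenA.AltHall.Arith
import Cfsg.Agent.GenA.AltHall.Blocks
import Cfsg.Agent.GenA.AltHall.Primitive

/-!
# The Hall subgroups of symmetric and alternating groups
-/

set_option autoImplicit false

namespace Cfsg.Agent.GenA.AltHall

open Equiv

universe u

section

variable {α : Type*} [Fintype α] [DecidableEq α]

/-- The exceptional Hall subgroups: a point stabiliser for prime degree, `4 + 3` in degree `7` and
two blocks of size `4` in degree `8`. -/
def Shape (π : Set ℕ) (H : Subgroup (Perm α)) : Prop :=
  ∃ s : Finset α, H ≤ fibStab (fun x => decide (x ∈ s)) ∧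
    (((Fintype.card α).Prime ∧ s.card = 1 ∧
        ∀ r : ℕ, r.Prime → r ≤ Fintype.card α → (r ∈ π ↔ r < Fintype.card α)) ∨
      ((Fintype.card α = 7 ∨ Fintype.card α = 8) ∧ s.card = 4 ∧
        ∀ r : ℕ, r.Prime → r ≤ Fintype.card α → (r ∈ π ↔ (r = 2 ∨ r = 3))))

theorem stabP_le_fibStab (s : Finset α) : stabP s ≤ fibStab (fun x => decide (x ∈ s)) :=
  fun _ hg => fibStab_of_eq fun x => decide_eq_decide.2 (hg x)

theorem fibStab_le_stabP {s : Finset α} (hs : 2 * s.card ≠ Fintype.card α) :
    fibStab (fun x => decide (x ∈ s)) ≤ stabP s := by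
  intro g hg
  rcases s.eq_empty_or_nonempty with rfl | ⟨a, ha⟩
  · intro x; simp
  have key : ∀ x, g x ∈ s ↔ (x ∈ s ↔ g a ∈ s) := fun x => by
    have := hg x a
    simp only [decide_eq_decide, ha, iff_true] at this
    tauto
  by_cases hga : g a ∈ s
  · exact fun x => by simp [key x, hga]
  exfalso
  apply hs
  have hi : s.image g = sᶜ := by
    ext y
    obtain ⟨x, rfl⟩ := g.surjective y
    simp [key x, hga]
  have := congrArg Finset.card hi
  rw [Finset.card_image_of_injective _ g.injective, Finset.card_compl] at this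
  have := s.card_le_univ
  omega

theorem Shape.eight_of_transitive {π : Set ℕ} {H : Subgroup (Perm α)} (h : Shape π H)
    [MulAction.IsPretransitive H α] {q : ℕ} (hq : q.Prime) (hq2 : q ≠ 2)
    (hqn : q ≤ Fintype.card α) :
    Fintype.card α = 8 ∧ ∀ r : ℕ, r.Prime → r ≤ 8 → (r ∈ π ↔ (r = 2 ∨ r = 3)) := by
  have hq3 : 3 ≤ q := by have := hq.two_le; omega
  obtain ⟨s, hs, hcase⟩ := h
  have hne : 2 * s.card ≠ Fintype.card α → s.card = 0 ∨ s.card = Fintype.card α := fun h2 => by
    rcases s.eq_empty_or_nonempty with h0 | ⟨a, ha⟩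
    · exact Or.inl (by simp [h0])
    · refine Or.inr (congrArg Finset.card (Finset.eq_univ_iff_forall.2 fun x => ?_))
      obtain ⟨g, rfl⟩ := MulAction.exists_smul_eq H a x
      exact ((fibStab_le_stabP h2 (hs g.2)) a).2 ha
  rcases hcase with ⟨-, h1, -⟩ | ⟨h78, h4, hc⟩
  · rcases hne (by omega) with e | e <;> omega
  · rcases h78 with h7 | h8
    · rcases hne (by omega) with e | e <;> omega
    · exact ⟨h8, fun r hr hr8 => hc r hr (by omega)⟩

/-- A prime of `π` up to the degree is at most the block size. -/
theorem prime_le_block {π : Set ℕ} {b c p : ℕ} (hb : 2 ≤ b)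
    (hno : ∀ p : ℕ, p.Prime → p ∈ π → ∀ j, 2 ≤ j → j ≤ c → ¬ p ∣ (j * b - 1).choose (b - 1))
    (hp : p.Prime) (hpi : p ∈ π) (hle : p ≤ c * b) : p ≤ b := by
  by_contra hlt
  set j := (p - 1) / b + 1 with hj
  have h1 : (j - 1) * b < p := by
    have := Nat.div_mul_le_self (p - 1) b
    rw [hj, Nat.add_sub_cancel]; omega
  have h2 : p ≤ j * b := by
    have := Nat.lt_div_mul_add (a := p - 1) (by omega : 0 < b)
    rw [hj, Nat.succ_mul]; omega
  have hj2 : 2 ≤ j := by
    by_contra hj2
    have : 1 ≤ j := Nat.le_add_left 1 _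
    have : j = 1 := by omega
    rw [this, one_mul] at h2; omega
  have hjc : j ≤ c := by
    have : (p - 1) / b < c := (Nat.div_lt_iff_lt_mul (by omega)).2 (by have := hp.two_le; omega)
    omega
  have hd : p ∣ (j * b).choose b := hp.dvd_choose (by omega)
    (by rwa [Nat.sub_mul, one_mul] at h1) h2
  have he : (j * b).choose b = j * (j * b - 1).choose (b - 1) := by
    have := Nat.add_one_mul_choose_eq (j * b - 1) (b - 1)
    rw [Nat.sub_add_cancel (Nat.mul_pos (by omega) (by omega)), Nat.sub_add_cancel (by omega)] at this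
    apply Nat.eq_of_mul_eq_mul_right (show 0 < b by omega)
    rw [← this]; ring
  rw [he] at hd
  rcases hp.dvd_mul.1 hd with hd | hd
  · have := Nat.le_of_dvd (by omega) hd
    have : j * 2 ≤ j * b := Nat.mul_le_mul_left _ hb
    have : (j - 1) * 2 ≤ (j - 1) * b := Nat.mul_le_mul_left _ hb
    omega
  · exact hno p hp hpi j hj2 hjc hd

theorem pretransitive_of_orb_eq_univ (H : Subgroup (Perm α)) {a : α} (h : orb H a = Finset.univ) :
    MulAction.IsPretransitive H α := ⟨fun x y => by
  obtain ⟨g, hg, rfl⟩ := mem_orb.1 (h ▸ Finset.mem_univ x : x ∈ orb H a)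
  obtain ⟨k, hk, rfl⟩ := mem_orb.1 (h ▸ Finset.mem_univ y : y ∈ orb H a)
  refine ⟨⟨k * g⁻¹, mul_mem hk (inv_mem hg)⟩, ?_⟩
  show (k * g⁻¹) (g a) = k a
  simp⟩

theorem le_card_orb {H : Subgroup (Perm α)} {g : Perm α} (hg : g ∈ H) (hgc : g.IsCycle) {a : α}
    (ha : a ∈ g.support) : g.support.card ≤ (orb H a).card :=
  Finset.card_le_card fun x hx => by
    obtain ⟨i, hi⟩ := hgc.exists_zpow_eq (Perm.mem_support.1 ha) (Perm.mem_support.1 hx)
    exact mem_orb.2 ⟨g ^ i, zpow_mem hg i, hi⟩

/-- All invariant sets are smaller than a power of two exceeding all orbits. -/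
theorem card_invariant_lt {π : Set ℕ} {H T : Subgroup (Perm α)} (h : Cfsg.IsPiHallOf π H T)
    (hT : IsT T) (h2 : 2 ∈ π) {a : ℕ} (ha : 1 ≤ a) (horb : ∀ x, (orb H x).card < 2 ^ (a + 1))
    (u : Finset α) (hu : H ≤ stabP u) : u.card < 2 ^ (a + 1) := by
  induction u using Finset.strongInduction with
  | H u ih =>
    rcases u.eq_empty_or_nonempty with rfl | ⟨x, hx⟩
    · simp
    by_cases h3 : u.card < 3
    · have : 2 ^ 2 ≤ 2 ^ (a + 1) := Nat.pow_le_pow_right (by norm_num) (by omega)
      omega
    have hsub := orb_subset hu hx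
    have hd : (u \ orb H x).card < 2 ^ (a + 1) := ih _
      ⟨Finset.sdiff_subset, fun e => (Finset.mem_sdiff.1 (e hx)).2 (self_mem_orb H x)⟩
      (fun g hg y => by simp [hu hg y, le_stabP_orb H x hg y])
    obtain ⟨T', hT', hh, -, -⟩ := hall_image h hT hu
    set o : Finset {y // y ∈ u} := (orb H x).subtype (· ∈ u) with ho
    have hoc : o.card = (orb H x).card := by
      rw [ho, Finset.card_subtype, Finset.filter_true_of_mem hsub]
    have hos : image H u ≤ stabP o := by
      intro σ hσ
      obtain ⟨g, hg, hgH, rfl⟩ := mem_image_iff.1 hσ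
      intro y
      simpa [ho] using le_stabP_orb H x hgH y
    have hc := not_dvd_choose hh hT' (by rw [Fintype.card_coe]; omega) hos Nat.prime_two h2
    rw [Fintype.card_coe, hoc, ← Finset.card_sdiff_add_card_eq_card hsub] at hc
    have hlt := Arith.mod_add_mod_lt Nat.prime_two hc (i := a + 1) (by omega)
    rw [Nat.mod_eq_of_lt hd, Nat.mod_eq_of_lt (horb x)] at hlt
    rw [← Finset.card_sdiff_add_card_eq_card hsub]
    exact hlt

end

/-- **No Hall subgroup for two odd primes.** -/
theorem odd_none (π : Set ℕ) (h2 : 2 ∉ π) : ∀ (n : ℕ) (α : Type u) [Fintype α] [DecidableEq α],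
    Fintype.card α = n → ∀ H T : Subgroup (Perm α), IsT T → Cfsg.IsPiHallOf π H T →
      ∀ p q : ℕ, p.Prime → q.Prime → p ∈ π → q ∈ π → p < q → q ≤ n → False := by
  intro n
  induction n using Nat.strong_induction_on with
  | _ n ih =>
    intro α _ _ hn H T hT h p q hp hq hpi hqi hpq hqn
    subst hn
    have hq2 : q ≠ 2 := fun e => h2 (e ▸ hqi)
    obtain ⟨g, hgH, hgc, hgs⟩ := exists_cycle h hT hq hqi hqn (Or.inr hq2)
    obtain ⟨a, ha⟩ : g.support.Nonempty := Finset.card_pos.1 (hgs ▸ hq.pos)
    have hle : q ≤ (orb H a).card := hgs ▸ le_card_orb hgH hgc ha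
    by_cases huniv : orb H a = Finset.univ
    · haveI := pretransitive_of_orb_eq_univ H huniv
      by_cases hprim : MulAction.IsPreprimitive H α
      · exact not_primitive h hT hprim (fun e => h2 e.1) hq hq2 hqi hqn (Or.inr ⟨p, hp, hpi, hpq⟩)
      · haveI : Nontrivial α := Fintype.one_lt_card_iff_nontrivial.1 (by have := hq.two_le; omega)
        obtain ⟨b, c, hb, hc, hbc, hno, s, hs, -, hh⟩ := hall_blocks h hT hprim
        have hqb := prime_le_block hb hno hq hqi (hbc ▸ hqn)
        refine ih b ?_ {x // x ∈ s} (by rw [Fintype.card_coe, hs]) _ ⊤ (Or.inl rfl) hh p q hp hq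
          hpi hqi hpq hqb
        rw [hbc]; nlinarith
    · obtain ⟨T', hT', hh, -, -⟩ := hall_image h hT (le_stabP_orb H a)
      obtain ⟨z, hz⟩ := not_forall.1 (fun hall => huniv (Finset.eq_univ_of_forall hall))
      exact ih _ (Finset.card_lt_univ_of_notMem hz)
        {x // x ∈ orb H a} (Fintype.card_coe _) _ T' hT' hh p q hp hq hpi hqi hpq hle

/-- **The classification.** -/
theorem classify (π : Set ℕ) (h2 : 2 ∈ π) : ∀ (n : ℕ) (α : Type u) [Fintype α] [DecidableEq α],
    Fintype.card α = n → ∀ H T : Subgroup (Perm α), IsT T → Cfsg.IsPiHallOf π H T →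
      ∀ q : ℕ, q.Prime → q ≠ 2 → q ∈ π → q ≤ n →
      (∀ r : ℕ, r.Prime → r ≤ n → r ∈ π) ∨ Shape π H := by
  intro n
  induction n using Nat.strong_induction_on with
  | _ n ih =>
    intro α _ _ hn H T hT h q hq hq2 hqi hqn
    subst hn
    have hq3 : 3 ≤ q := by have := hq.two_le; omega
    obtain ⟨g, hgH, hgc, hgs⟩ := exists_cycle h hT hq hqi hqn (Or.inr hq2)
    obtain ⟨a, ha⟩ : g.support.Nonempty := Finset.card_pos.1 (hgs ▸ hq.pos)
    obtain ⟨x, -, hx⟩ := Finset.exists_max_image Finset.univ (fun x => (orb H x).card)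
      ⟨a, Finset.mem_univ a⟩
    have hle : q ≤ (orb H x).card :=
      (hgs ▸ le_card_orb hgH hgc ha).trans (hx a (Finset.mem_univ a))
    by_cases huniv : orb H x = Finset.univ
    · haveI := pretransitive_of_orb_eq_univ H huniv
      by_cases hprim : MulAction.IsPreprimitive H α
      · left
        by_cases h3 : 3 ∈ π
        · intro r hr hrn
          rcases eq_or_ne r 2 with rfl | hr2
          · exact h2
          obtain ⟨g3, hg3H, hg3c, hg3s⟩ :=
            exists_cycle h hT Nat.prime_three h3 (by omega) (Or.inr (by norm_num))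
          have hA := Perm.alternatingGroup_le_of_isPreprimitive_of_isThreeCycle_mem hprim
            (card_support_eq_three_iff.1 hg3s) hg3H
          refine h.2.1 r hr (Dvd.dvd.trans ?_ (Subgroup.card_dvd_of_le hA))
          haveI : Nontrivial α := Fintype.one_lt_card_iff_nontrivial.1 (by omega)
          have h2c : 2 * Fintype.card (alternatingGroup α) = Fintype.card (Perm α) :=
            two_mul_card_alternatingGroup
          rw [Fintype.card_perm] at h2c
          rw [Nat.card_eq_fintype_card]
          exact (((Nat.coprime_primes hr Nat.prime_two).2 hr2).dvd_mul_left).1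
            (h2c ▸ hr.dvd_factorial.2 hrn)
        · exact (not_primitive h hT hprim (fun e => h3 e.2) hq hq2 hqi hqn (Or.inl h2)).elim
      · haveI : Nontrivial α := Fintype.one_lt_card_iff_nontrivial.1 (by omega)
        obtain ⟨b, c, hb, hc, hbc, hno, s, hs, hs2, hh⟩ := hall_blocks h hT hprim
        have hqb := prime_le_block hb hno hq hqi (hbc ▸ hqn)
        have hblt : b < Fintype.card α := by rw [hbc]; nlinarith
        have hj2 : ∀ p : ℕ, p.Prime → p ∈ π → ¬ p ∣ (b + (b - 1)).choose (b - 1) := fun p hp hpi => by
          have := hno p hp hpi 2 le_rfl hc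
          rwa [show 2 * b - 1 = b + (b - 1) by omega] at this
        have hb4 : b = 4 := by
          rcases ih b hblt {x // x ∈ s} (by rw [Fintype.card_coe, hs]) _ ⊤ (Or.inl rfl) hh q hq hq2
              hqi hqb with hfull | hshape
          · exact (Arith.eq_four_three (M := b) (R := b - 1) (by omega) (by omega)
              fun p hp hpb => hj2 p hp (hfull p hp hpb)).1
          · obtain ⟨s', -, ⟨hpr, -, -⟩ | ⟨h78, -, hcond⟩⟩ := hshape
            · rw [Fintype.card_coe, hs] at hpr
              have h2b := hj2 2 Nat.prime_two h2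
              obtain ⟨t, ht⟩ := hpr.odd_of_ne_two (by omega)
              -- the top binary digit of `b` occurs twice
              set k := Nat.log 2 b
              have hk1 : 2 ^ k ≤ b := Nat.pow_log_le_self 2 (by omega)
              have hk2 : b < 2 ^ (k + 1) := Nat.lt_pow_succ_log_self (by norm_num) b
              have hlt := Arith.mod_add_mod_lt Nat.prime_two h2b (i := k + 1) (by omega)
              rw [Nat.mod_eq_of_lt hk2, Nat.mod_eq_of_lt (by omega : b - 1 < 2 ^ (k + 1))] at hlt
              have : 2 ^ k ≠ b := fun e => by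
                rcases k with _ | k
                · omega
                · rw [pow_succ] at e; omega
              rw [pow_succ] at hlt
              omega
            · rw [Fintype.card_coe, hs] at h78
              rcases h78 with rfl | rfl
              · exact absurd (show 2 ∣ (7 + (7 - 1)).choose (7 - 1) by decide)
                  (hj2 2 Nat.prime_two h2)
              · exact absurd (show 3 ∣ (8 + (8 - 1)).choose (8 - 1) by decide)
                  (hj2 3 Nat.prime_three ((hcond 3 Nat.prime_three (by rw [Fintype.card_coe, hs]; omega)).2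
                    (Or.inr rfl)))
        subst hb4
        have hq3' : q = 3 := by
          rcases (by omega : q = 3 ∨ q = 4) with e | e
          · exact e
          · subst e; norm_num at hq
        subst hq3'
        have hc2 : c = 2 := by
          by_contra hne
          exact hno 3 Nat.prime_three hqi 3 (by norm_num) (by omega) (by decide)
        subst hc2
        refine Or.inr ⟨s, hs2 rfl, Or.inr ⟨Or.inr hbc, hs, fun r hr hrn => ⟨fun hrpi => ?_, ?_⟩⟩⟩
        · have := prime_le_block hb hno hr hrpi (hbc ▸ hrn)
          have := hr.two_le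
          rcases (by omega : r = 2 ∨ r = 3 ∨ r = 4) with e | e | e
          · exact Or.inl e
          · exact Or.inr e
          · subst e; norm_num at hr
        · rintro (rfl | rfl)
          · exact h2
          · exact hqi
    · set s := orb H x with hs
      have hsH : H ≤ stabP s := le_stabP_orb H x
      set M := s.card with hM
      set R := sᶜ.card with hR
      have hMR : M + R = Fintype.card α := s.card_add_card_compl
      have hR1 : 1 ≤ R := Finset.card_pos.2 (by
        rw [Finset.nonempty_iff_ne_empty]; simpa using huniv)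
      have hno : ∀ p : ℕ, p.Prime → p ∈ π → ¬ p ∣ (M + R).choose R := fun p hp hpi => by
        have := not_dvd_choose h hT (by omega) hsH hp hpi
        rwa [← hMR, ← hM, Nat.choose_symm_add] at this
      have hRM : R < M := by
        set k := Nat.log 2 M
        have hk1 : 2 ^ k ≤ M := Nat.pow_log_le_self 2 (by omega)
        have hk2 : M < 2 ^ (k + 1) := Nat.lt_pow_succ_log_self (by norm_num) M
        have := card_invariant_lt h hT h2 (a := k)
          (Nat.log_pos (by norm_num) (by omega)) (fun y => (hx y (Finset.mem_univ y)).trans_lt hk2)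
          Finset.univ (fun g _ y => by simp)
        rw [Finset.card_univ, pow_succ] at this
        omega
      obtain ⟨T', hT', hh, -, -⟩ := hall_image h hT hsH
      haveI := image_isPretransitive H x
      rcases ih M (by omega) {y // y ∈ s} (Fintype.card_coe _) _ T' hT' hh q hq hq2 hqi hle with
        hfull | hshape
      · refine Or.inr ?_
        rcases Nat.eq_or_lt_of_le hR1 with hR' | hR'
        · have hnp : (Fintype.card α).Prime := by
            by_contra hn
            have hd := Nat.minFac_dvd (Fintype.card α)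
            have hp := Nat.minFac_prime (n := Fintype.card α) (by omega)
            exact hno _ hp (hfull _ hp (Arith.prime_le_of_not_prime (M := M) (R := R) hRM hMR.ge hn
              (by omega) hp hd)) (by rwa [← hR', Nat.choose_one_right, hR', hMR])
          refine ⟨sᶜ, fun g hg => stabP_le_fibStab _ (stabP_compl s ▸ hsH hg), Or.inl ⟨hnp, hR'.symm,
            fun r hr hrn => ⟨fun hrpi => lt_of_le_of_ne hrn fun e => ?_, fun hlt => hfull r hr (by omega)⟩⟩⟩
          exact hno r hr hrpi (by rw [← hR', Nat.choose_one_right, hR', hMR, e])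
        · obtain ⟨hM4, hR3⟩ := Arith.eq_four_three hR' hRM fun p hp hpM => hno p hp (hfull p hp hpM)
          refine ⟨s, fun g hg => stabP_le_fibStab _ (hsH hg), Or.inr ⟨Or.inl (by omega), hM4,
            fun r hr hrn => ⟨fun hrpi => ?_, ?_⟩⟩⟩
          · have := hr.two_le
            rw [← hMR, hM4, hR3] at hrn
            have h35 := hno r hr hrpi
            rw [hM4, hR3] at h35
            interval_cases r
            · exact Or.inl rfl
            · exact Or.inr rfl
            · norm_num at hr
            · exact absurd (by decide) h35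
            · norm_num at hr
            · exact absurd (by decide) h35
          · rintro (rfl | rfl)
            · exact h2
            · exact hfull 3 Nat.prime_three (by omega)
      · obtain ⟨h8, hcond⟩ := hshape.eight_of_transitive hq hq2 (by rw [Fintype.card_coe]; exact hle)
        rw [Fintype.card_coe, ← hM] at h8
        have := hno 3 Nat.prime_three ((hcond 3 Nat.prime_three (by norm_num)).2 (Or.inr rfl))
        rw [h8] at this hRM
        exfalso
        apply this
        interval_cases R <;> decide

end Cfsg.Agent.GenA.AltHall
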