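import Cfsg.Agent.GenA.AltHall.Main

/-!
# Hall subgroups of alternating groups: intersections, and failure of the full Sylow property
-/

set_option autoImplicit false

namespace Cfsg.Agent.GenA.AltHall

open Equiv

variable {α : Type*} [Fintype α] [DecidableEq α] {π : Set ℕ}

theorem hall_subgroupOf_normal {G : Type*} [Group G] [Finite G] {H : Subgroup G} (A : Subgroup G)
    [A.Normal] (h : Cfsg.IsPiHall π H) : Cfsg.IsPiHall π (H.subgroupOf A) := by
  refine ⟨fun p hp hd => h.1 p hp ?_, fun p hp hpi hd => h.2 p hp hpi (hd.trans ?_)⟩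
  · refine hd.trans ?_
    have : H.subgroupOf A = (H ⊓ A).subgroupOf A := (Subgroup.inf_subgroupOf_right H A).symm
    rw [this, Nat.card_congr (Subgroup.subgroupOfEquivOfLe (inf_le_right : H ⊓ A ≤ A)).toEquiv]
    exact Subgroup.card_dvd_of_le inf_le_left
  · show H.relIndex A ∣ H.index
    obtain ⟨c, hc⟩ := Subgroup.relIndex_dvd_index_of_normal (H := A) (K := H)
    have h3 := Subgroup.relIndex_mul_index (inf_le_right : H ⊓ A ≤ A)
    have h4 := Subgroup.relIndex_mul_index (inf_le_left : H ⊓ A ≤ H)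
    rw [Subgroup.inf_relIndex_right] at h3
    rw [Subgroup.inf_relIndex_left] at h4
    rw [← h4, hc, ← mul_assoc] at h3
    refine ⟨c, Nat.eq_of_mul_eq_mul_left (n := A.relIndex H)
      (Nat.pos_of_ne_zero fun e => ?_) (by rw [← h3]; ring)⟩
    have := Subgroup.relIndex_dvd_card A H
    rw [e, zero_dvd_iff] at this
    exact Nat.card_pos.ne' this

/-- **A Hall subgroup of the alternating group is the trace of one of the symmetric group.** -/
theorem hall_alt_iff (M : Subgroup (alternatingGroup α)) :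
    Cfsg.IsPiHall π M ↔ ∃ M₀ : Subgroup (Perm α),
      Cfsg.IsPiHall π M₀ ∧ M = M₀.subgroupOf (alternatingGroup α) := by
  refine ⟨fun hM => ?_, ?_⟩
  · have hA := main (π := π) (T := alternatingGroup α) (Or.inr rfl)
    have hS : Cfsg.IsEPiGroup π (Perm α) :=
      e_perm_iff.2 ((main (Or.inl rfl)).1.2 (hA.1.1 ⟨M, hM⟩))
    obtain ⟨M₀, hM₀⟩ := hS
    obtain ⟨g, hg⟩ := (hA.2.1 ⟨M, hM⟩).2 _ M (hall_subgroupOf_normal _ hM₀) hM
    refine ⟨M₀.map (MulAut.conj (g : Perm α)).toMonoidHom, ⟨fun p hp hd => hM₀.1 p hp ?_,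
      fun p hp hpi => ?_⟩, ?_⟩
    · rwa [Subgroup.card_map_of_injective (MulAut.conj (g : Perm α)).injective] at hd
    · rw [Subgroup.index_map_of_bijective (f := (MulAut.conj (g : Perm α)).toMonoidHom)
        (MulAut.conj (g : Perm α)).bijective]
      exact hM₀.2 p hp hpi
    · rw [hg]
      ext x
      constructor
      · rintro ⟨y, hy, rfl⟩
        exact ⟨y, hy, rfl⟩
      · rintro ⟨y, hy, hyx⟩
        refine ⟨g⁻¹ * x * g, ?_, ?_⟩
        · have e : (g⁻¹ * x * g : alternatingGroup α) = (⟨y, ?_⟩ : alternatingGroup α) := Subtype.ext (by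
            push_cast
            rw [show (x : Perm α) = (g : Perm α) * y * (g : Perm α)⁻¹ from hyx.symm]
            group)
          · rw [SetLike.mem_coe, Subgroup.mem_subgroupOf]
            rw [e]; exact hy
          · rw [show y = (g : Perm α)⁻¹ * x * g by
              rw [show (x : Perm α) = (g : Perm α) * y * (g : Perm α)⁻¹ from hyx.symm]; group]
            exact ((g⁻¹ * x * g : alternatingGroup α)).2
        · show g * (g⁻¹ * x * g) * g⁻¹ = x
          group
  · rintro ⟨M₀, hM₀, rfl⟩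
    exact hall_subgroupOf_normal _ hM₀

/-- A witness subgroup inside no exceptional Hall subgroup. -/
theorem not_dpi (hnot : ¬ One π (Fintype.card α) ∧ ¬ All π (Fintype.card α)) (W : Subgroup (Perm α))
    (hW : Cfsg.IsPiSubgroup π W)
    (hno : ∀ s : Finset α, Good π s → ¬ W ⊓ alternatingGroup α ≤ shapeGroup s) :
    ¬ Cfsg.IsDPiGroup π (alternatingGroup α) := by
  intro hD
  obtain ⟨M, hWM, hM⟩ := exists_maximal_pi (π := π) (K := W.subgroupOf (alternatingGroup α))
    fun r hr hd => hW r hr (hd.trans (by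
      have : W.subgroupOf (alternatingGroup α) =
          (W ⊓ alternatingGroup α).subgroupOf (alternatingGroup α) :=
        (Subgroup.inf_subgroupOf_right _ _).symm
      rw [this, Nat.card_congr (Subgroup.subgroupOfEquivOfLe
        (inf_le_right : W ⊓ alternatingGroup α ≤ alternatingGroup α)).toEquiv]
      exact Subgroup.card_dvd_of_le inf_le_left))
  obtain ⟨-, s, hs, he⟩ := ((hall_cases (Or.inr rfl)
    ((isPiHall_subtype M).1 (isPiHall_of_maximal hD hM))).resolve_left hnot.1).resolve_left hnot.2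
  refine hno s hs fun x hx => ?_
  have : x ∈ M.map (alternatingGroup α).subtype := ⟨⟨x, hx.2⟩, hWM hx.1, rfl⟩
  rw [he] at this
  exact this.2

theorem prime_dvd_card_alt (h4 : 4 ≤ Fintype.card α) {r : ℕ} (hr : r.Prime)
    (hrn : r ≤ Fintype.card α) : r ∣ Nat.card (alternatingGroup α) := by
  rcases eq_or_ne r 2 with rfl | hr2
  · exact dvd_card_of_alt_le le_rfl Nat.prime_two h4 (by norm_num)
  · haveI : Nontrivial α := Fintype.one_lt_card_iff_nontrivial.1 (by omega)
    have h2c : 2 * Fintype.card (alternatingGroup α) = Fintype.card (Perm α) :=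
      two_mul_card_alternatingGroup
    rw [Fintype.card_perm] at h2c
    rw [Nat.card_eq_fintype_card]
    exact (((Nat.coprime_primes hr Nat.prime_two).2 hr2).dvd_mul_left).1
      (h2c ▸ hr.dvd_factorial.2 hrn)

theorem prime_witness (hp : (Fintype.card α).Prime) (h5 : 5 ≤ Fintype.card α)
    (hc : ∀ r : ℕ, r.Prime → r ≤ Fintype.card α → (r ∈ π ↔ r < Fintype.card α))
    (hnot : ¬ One π (Fintype.card α) ∧ ¬ All π (Fintype.card α)) :
    ¬ Cfsg.IsDPiGroup π (alternatingGroup α) := by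
  obtain ⟨t, -, ht⟩ := Finset.exists_subset_card_eq (s := (Finset.univ : Finset α)) (n := 3)
    (by simp; omega)
  have htc := t.card_add_card_compl
  refine not_dpi hnot (shapeGroup t) (shapeGroup_pi (by omega) (by omega) fun r hr hle => ?_)
    fun s hs hle => ?_
  · exact (hc r hr (by omega)).2 (by omega)
  obtain ⟨-, hs1, -⟩ | ⟨h78, -, hc'⟩ := hs
  · obtain ⟨a, rfl⟩ := Finset.card_eq_one.1 hs1
    obtain ⟨b, c, e, hbc, he, hab, hb⟩ : ∃ b c e : α, b ≠ c ∧ (c ∈ t ↔ e ∈ t) ∧
        (a ≠ b ∧ swap a b * swap c e ∈ alternatingGroup α ∧ (swap c e) a = a) ∧ (a ∈ t ↔ b ∈ t) := by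
      by_cases ha : a ∈ t
      · obtain ⟨b, hb, hba⟩ := Finset.exists_mem_ne (show 1 < t.card by omega) a
        obtain ⟨c, hc1, e, he1, hce⟩ := Finset.one_lt_card.1 (show 1 < tᶜ.card by omega)
        rw [Finset.mem_compl] at hc1 he1
        exact ⟨b, c, e, fun x => hc1 (x ▸ hb), by simp [hc1, he1], ⟨hba.symm,
          Perm.mem_alternatingGroup.2 (by simp [Perm.sign_swap, hba.symm, hce]),
          swap_apply_of_ne_of_ne (fun x => hc1 (x ▸ ha)) (fun x => he1 (x ▸ ha))⟩, by simp [ha, hb]⟩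
      · obtain ⟨b, hb, hba⟩ := Finset.exists_mem_ne (show 1 < tᶜ.card by omega) a
        rw [Finset.mem_compl] at hb
        obtain ⟨c, hc1, e, he1, hce⟩ := Finset.one_lt_card.1 (show 1 < t.card by omega)
        exact ⟨b, c, e, fun x => hb (x ▸ hc1), by simp [hc1, he1], ⟨hba.symm,
          Perm.mem_alternatingGroup.2 (by simp [Perm.sign_swap, hba.symm, hce]),
          swap_apply_of_ne_of_ne (fun x => ha (x ▸ hc1)) (fun x => ha (x ▸ he1))⟩, by simp [ha, hb]⟩
    obtain ⟨hab', hA, hfix⟩ := hab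
    have hg := hle ⟨stabP_le_fibStab t (mul_mem (swap_mem_stabP hb) (swap_mem_stabP he)), hA⟩
    have h1 := (fibStab_le_stabP (by rw [Finset.card_singleton]; omega) hg a).2 (Finset.mem_singleton_self a)
    rw [Finset.mem_singleton, Perm.mul_apply, hfix, swap_apply_left] at h1
    exact hab' h1.symm
  · rcases h78 with h7 | h8
    · rcases (hc' 5 (by norm_num) (by omega)).1 ((hc 5 (by norm_num) (by omega)).2 (by omega)) with
        e | e <;> omega
    · rw [h8] at hp; norm_num at hp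

/-- The two generators of the witness in degree seven. -/
def sevenA : Perm (Fin 7) := swap 0 1 * swap 1 2 * (swap 3 4 * swap 4 5)

/-- The two generators of the witness in degree seven. -/
def sevenB : Perm (Fin 7) := swap 0 3 * swap 1 4

/-- The two generators of the witness in degree eight. -/
def eightA : Perm (Fin 8) := swap 2 4 * swap 4 7 * (swap 3 5 * swap 5 6)

/-- The two generators of the witness in degree eight. -/
def eightB : Perm (Fin 8) := swap 0 4 * swap 4 6 * (swap 1 5 * swap 5 7)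

theorem small_pi {n c : ℕ} (h3 : 2 ∈ π ∧ 3 ∈ π) (f : Fin n → Fin c) (hf : Function.Surjective f)
    (hd : ∃ a b, c.factorial * ∏ i : Fin c, ((Finset.univ.filter fun x => f x = i).card).factorial =
      2 ^ a * 3 ^ b) :
    Cfsg.IsPiSubgroup π (fibStab f) := by
  intro r hr hrd
  obtain ⟨a, b, hab⟩ := hd
  have := hrd.trans (card_fibStab_dvd hf)
  rw [Fintype.card_fin, hab] at this
  rcases hr.dvd_mul.1 this with h | h
  · exact ((Nat.prime_dvd_prime_iff_eq hr Nat.prime_two).1 (hr.dvd_of_dvd_pow h)).symm ▸ h3.1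
  · exact ((Nat.prime_dvd_prime_iff_eq hr Nat.prime_three).1 (hr.dvd_of_dvd_pow h)).symm ▸ h3.2

theorem seven_witness (hc : ∀ r : ℕ, r.Prime → r ≤ 7 → (r ∈ π ↔ (r = 2 ∨ r = 3)))
    (hnot : ¬ One π 7 ∧ ¬ All π 7) : ¬ Cfsg.IsDPiGroup π (alternatingGroup (Fin 7)) := by
  refine not_dpi (by rwa [Fintype.card_fin]) (fibStab (![0, 1, 2, 0, 1, 2, 3] : Fin 7 → Fin 4))
    (small_pi ⟨(hc 2 Nat.prime_two (by norm_num)).2 (Or.inl rfl),
      (hc 3 Nat.prime_three (by norm_num)).2 (Or.inr rfl)⟩ _ (by unfold Function.Surjective; decide)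
      ⟨6, 1, by decide⟩) fun s hs hle => ?_
  have hA := hle (show sevenA ∈ fibStab _ ⊓ alternatingGroup (Fin 7) from
    ⟨mem_fibStab.2 (by unfold sevenA; decide), Perm.mem_alternatingGroup.2 (by
      simp [sevenA, Perm.sign_swap])⟩)
  have hB := hle (show sevenB ∈ fibStab _ ⊓ alternatingGroup (Fin 7) from
    ⟨mem_fibStab.2 (by unfold sevenB; decide), Perm.mem_alternatingGroup.2 (by
      simp [sevenB, Perm.sign_swap])⟩)
  have key : ∀ s : Finset (Fin 7), s.card = 4 →
      ¬ ((∀ x y, decide (sevenA x ∈ s) = decide (sevenA y ∈ s) ↔ decide (x ∈ s) = decide (y ∈ s)) ∧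
        ∀ x y, decide (sevenB x ∈ s) = decide (sevenB y ∈ s) ↔ decide (x ∈ s) = decide (y ∈ s)) := by
    decide +kernel
  obtain ⟨-, -, hc'⟩ | ⟨-, h4, -⟩ := hs
  · have := (hc 5 (by norm_num) (by norm_num)).1 ((hc' 5 (by norm_num) (by simp)).2 (by simp))
    omega
  · exact key s h4 ⟨hA, hB⟩

theorem eight_witness (hc : ∀ r : ℕ, r.Prime → r ≤ 8 → (r ∈ π ↔ (r = 2 ∨ r = 3)))
    (hnot : ¬ One π 8 ∧ ¬ All π 8) : ¬ Cfsg.IsDPiGroup π (alternatingGroup (Fin 8)) := by
  refine not_dpi (by rwa [Fintype.card_fin]) (fibStab (![0, 0, 1, 1, 2, 2, 3, 3] : Fin 8 → Fin 4))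
    (small_pi ⟨(hc 2 Nat.prime_two (by norm_num)).2 (Or.inl rfl),
      (hc 3 Nat.prime_three (by norm_num)).2 (Or.inr rfl)⟩ _ (by unfold Function.Surjective; decide)
      ⟨7, 1, by decide⟩) fun s hs hle => ?_
  have hA := hle (show eightA ∈ fibStab _ ⊓ alternatingGroup (Fin 8) from
    ⟨mem_fibStab.2 (by unfold eightA; decide), Perm.mem_alternatingGroup.2 (by
      simp [eightA, Perm.sign_swap])⟩)
  have hB := hle (show eightB ∈ fibStab _ ⊓ alternatingGroup (Fin 8) from
    ⟨mem_fibStab.2 (by unfold eightB; decide), Perm.mem_alternatingGroup.2 (by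
      simp [eightB, Perm.sign_swap])⟩)
  have key : ∀ s : Finset (Fin 8), s.card = 4 →
      ¬ ((∀ x y, decide (eightA x ∈ s) = decide (eightA y ∈ s) ↔ decide (x ∈ s) = decide (y ∈ s)) ∧
        ∀ x y, decide (eightB x ∈ s) = decide (eightB y ∈ s) ↔ decide (x ∈ s) = decide (y ∈ s)) := by
    decide +kernel
  obtain ⟨hp, -, -⟩ | ⟨-, h4, -⟩ := hs
  · rw [Fintype.card_fin] at hp; norm_num at hp
  · exact key s h4 ⟨hA, hB⟩

end Cfsg.Agent.GenA.AltHall
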