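import Cfsg.Agent.GenA.AltHall.Classify

/-!
# Existence and conjugacy of Hall subgroups of symmetric and alternating groups
-/

set_option autoImplicit false

namespace Cfsg.Agent.GenA.AltHall

open Equiv

/-- The degrees and sets of primes with exceptional Hall subgroups. -/
def Cond (π : Set ℕ) (n : ℕ) : Prop :=
  (n.Prime ∧ ∀ r : ℕ, r.Prime → r ≤ n → (r ∈ π ↔ r < n)) ∨
    ((n = 7 ∨ n = 8) ∧ ∀ r : ℕ, r.Prime → r ≤ n → (r ∈ π ↔ (r = 2 ∨ r = 3)))

/-- At most one prime of `π` up to `n`. -/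
def One (π : Set ℕ) (n : ℕ) : Prop :=
  ∀ r s : ℕ, r.Prime → s.Prime → r ∈ π → s ∈ π → r ≤ n → s ≤ n → r = s

/-- All primes up to `n` are in `π`. -/
def All (π : Set ℕ) (n : ℕ) : Prop := ∀ r : ℕ, r.Prime → r ≤ n → r ∈ π

section Groups

variable {G : Type*} [Group G] [Finite G] {π : Set ℕ}

theorem eq_of_hall_le {H K : Subgroup G} (h : Cfsg.IsPiHall π H) (hHK : H ≤ K)
    (hK : Cfsg.IsPiSubgroup π K) : H = K := by
  have h1 : H.relIndex K = 1 := by
    by_contra hne
    obtain ⟨p, hp, hd⟩ := Nat.exists_prime_and_dvd hne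
    exact h.2 p hp (hK p hp (hd.trans (Subgroup.relIndex_dvd_card _ _)))
      (hd.trans (Subgroup.relIndex_dvd_index_of_le hHK))
  exact le_antisymm hHK (Subgroup.relIndex_eq_one.1 h1)

theorem exists_maximal_pi {K : Subgroup G} (hK : Cfsg.IsPiSubgroup π K) :
    ∃ M, K ≤ M ∧ Maximal (Cfsg.IsPiSubgroup π) M := by
  obtain ⟨M, hKM, hM⟩ :=
    (Set.toFinite {L : Subgroup G | Cfsg.IsPiSubgroup π L}).exists_le_maximal hK
  exact ⟨M, hKM, hM⟩

/-- In a group with the full Sylow property every `π`-subgroup lies in a Hall subgroup. -/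
theorem isPiHall_of_maximal (hD : Cfsg.IsDPiGroup π G) {M : Subgroup G}
    (hM : Maximal (Cfsg.IsPiSubgroup π) M) : Cfsg.IsPiHall π M := by
  refine ⟨hM.1, fun p hp hpi hd => ?_⟩
  haveI := Fact.mk hp
  obtain ⟨P⟩ : Nonempty (Sylow p G) := inferInstance
  obtain ⟨K, hPK, hK⟩ := exists_maximal_pi (π := π) (K := (P : Subgroup G)) fun r hr hrd => by
    obtain ⟨k, hk⟩ := IsPGroup.iff_card.1 P.2
    rw [hk] at hrd
    rwa [(Nat.prime_dvd_prime_iff_eq hr hp).1 (hr.dvd_of_dvd_pow hrd)]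
  obtain ⟨g, hg⟩ := hD M K hM hK
  apply P.not_dvd_index
  have hcard : Nat.card K = Nat.card M := by rw [hg, Subgroup.card_map_of_injective (MulAut.conj g).injective]
  have e : K.index = M.index := by
    have h1 := K.index_mul_card
    rw [hcard, ← M.index_mul_card] at h1
    exact Nat.eq_of_mul_eq_mul_right Nat.card_pos h1
  exact (e ▸ hd).trans (Subgroup.index_dvd_of_le hPK)

theorem maximal_of_hall {H : Subgroup G} (h : Cfsg.IsPiHall π H) :
    Maximal (Cfsg.IsPiSubgroup π) H :=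
  ⟨h.1, fun _ hK hHK => (eq_of_hall_le h hHK hK).ge⟩

theorem d_pi_of_all (h : ∀ r : ℕ, r.Prime → r ∣ Nat.card G → r ∈ π) : Cfsg.IsDPiGroup π G := by
  have htop : Cfsg.IsPiSubgroup π (⊤ : Subgroup G) := fun r hr hd => h r hr (by simpa using hd)
  intro H K hH hK
  have e1 : H = ⊤ := eq_top_iff.2 (hH.2 htop le_top)
  have e2 : K = ⊤ := eq_top_iff.2 (hK.2 htop le_top)
  refine ⟨1, ?_⟩
  rw [e1, e2, Subgroup.map_top_of_surjective _ (MulAut.conj (1 : G)).surjective]

theorem d_pi_of_one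
    (h : ∀ r s : ℕ, r.Prime → s.Prime → r ∈ π → s ∈ π → r ∣ Nat.card G → s ∣ Nat.card G → r = s) :
    Cfsg.IsDPiGroup π G := by
  intro H K hH hK
  by_cases hex : ∃ p, p.Prime ∧ p ∈ π ∧ p ∣ Nat.card G
  · obtain ⟨p, hp, hpi, hpd⟩ := hex
    haveI := Fact.mk hp
    have hpg : ∀ L : Subgroup G, Cfsg.IsPiSubgroup π L → IsPGroup p L := fun L hL => by
      refine IsPGroup.of_card_dvd_pow (n := (Nat.card L).primeFactorsList.length) (p := p) ?_
      rw [← Nat.eq_prime_pow_of_unique_prime_dvd Nat.card_pos.ne' fun {d} hd hdd =>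
        h d p hd hp (hL d hd hdd) hpi (hdd.trans L.card_subgroup_dvd_card) hpd]
    have hsyl : ∀ L : Subgroup G, Maximal (Cfsg.IsPiSubgroup π) L →
        ∃ P : Sylow p G, (P : Subgroup G) = L := fun L hL => by
      obtain ⟨P, hP⟩ := (hpg L hL.1).exists_le_sylow
      refine ⟨P, le_antisymm (hL.2 (fun r hr hrd => ?_) hP) hP⟩
      obtain ⟨k, hk⟩ := IsPGroup.iff_card.1 P.2
      rw [hk] at hrd
      rwa [(Nat.prime_dvd_prime_iff_eq hr hp).1 (hr.dvd_of_dvd_pow hrd)]
    obtain ⟨P, rfl⟩ := hsyl H hH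
    obtain ⟨Q, rfl⟩ := hsyl K hK
    obtain ⟨g, rfl⟩ := MulAction.exists_smul_eq G P Q
    exact ⟨g, rfl⟩
  · have hbot : ∀ L : Subgroup G, Cfsg.IsPiSubgroup π L → L = ⊥ := fun L hL =>
      Subgroup.card_eq_one.1 (by
        by_contra hne
        obtain ⟨p, hp, hd⟩ := Nat.exists_prime_and_dvd hne
        exact hex ⟨p, hp, hL p hp hd, hd.trans L.card_subgroup_dvd_card⟩)
    exact ⟨1, by rw [hbot H hH.1, hbot K hK.1, Subgroup.map_bot]⟩

theorem c_pi_of_d (hD : Cfsg.IsDPiGroup π G) : Cfsg.IsCPiGroup π G := by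
  refine ⟨?_, fun H K hH hK => hD H K (maximal_of_hall hH) (maximal_of_hall hK)⟩
  obtain ⟨M, -, hM⟩ := exists_maximal_pi (π := π) (K := (⊥ : Subgroup G))
    (fun r hr hd => absurd (Nat.dvd_one.1 (by simpa using hd)) hr.ne_one)
  exact ⟨M, isPiHall_of_maximal hD hM⟩

end Groups

variable {α : Type*} [Fintype α] [DecidableEq α] {π : Set ℕ}

theorem prime_le_of_dvd {T : Subgroup (Perm α)} {r : ℕ} (hr : r.Prime) (hd : r ∣ Nat.card T) :
    r ≤ Fintype.card α := by
  refine hr.dvd_factorial.1 ?_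
  have := hd.trans T.card_subgroup_dvd_card
  rwa [Nat.card_perm, Nat.card_eq_fintype_card] at this

theorem isPiHall_subtype {G : Type*} [Group G] {T : Subgroup G} (M : Subgroup T) :
    Cfsg.IsPiHall π M ↔ Cfsg.IsPiHallOf π (M.map T.subtype) T := by
  rw [Cfsg.IsPiHall, Cfsg.IsPiHallOf, Subgroup.card_map_of_injective T.subtype_injective,
    Subgroup.relIndex, Subgroup.subgroupOf, Subgroup.comap_map_eq_self_of_injective T.subtype_injective]
  simp [Subgroup.map_subtype_le]

theorem card_stabP (s : Finset α) :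
    Nat.card (stabP s) = s.card.factorial * sᶜ.card.factorial := by
  refine Nat.dvd_antisymm (card_stabP_dvd s) ?_
  let f : Perm {x // x ∈ s} × Perm {x // x ∈ sᶜ} → stabP s := fun στ =>
    ⟨Perm.ofSubtype στ.1 * Perm.ofSubtype στ.2, mul_mem
      (mem_stabP_of_imp fun x hx => by
        rw [Perm.ofSubtype_apply_of_mem στ.1 hx]; exact (στ.1 ⟨x, hx⟩).2)
      (mem_stabP_of_imp fun x hx => by
        rw [Perm.ofSubtype_apply_of_not_mem στ.2 (by simpa using hx)]; exact hx)⟩
  have hf : Function.Injective f := by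
    rintro ⟨σ, τ⟩ ⟨σ', τ'⟩ e
    have e' : ∀ x, (Perm.ofSubtype σ * Perm.ofSubtype τ) x =
        (Perm.ofSubtype σ' * Perm.ofSubtype τ') x :=
      fun x => congrArg (fun g : stabP s => (g : Perm α) x) e
    refine Prod.ext (Equiv.ext fun ⟨x, hx⟩ => Subtype.ext ?_) (Equiv.ext fun ⟨x, hx⟩ => Subtype.ext ?_)
    · have := e' x
      simpa [Perm.mul_apply, Perm.ofSubtype_apply_of_not_mem _ (show x ∉ sᶜ by simpa using hx),
        Perm.ofSubtype_apply_of_mem _ hx] using this
    · have := e' x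
      have h1 : (τ ⟨x, hx⟩ : α) ∉ s := Finset.mem_compl.1 (τ ⟨x, hx⟩).2
      have h2 : (τ' ⟨x, hx⟩ : α) ∉ s := Finset.mem_compl.1 (τ' ⟨x, hx⟩).2
      simpa [Perm.mul_apply, Perm.ofSubtype_apply_of_mem _ hx, Perm.ofSubtype_apply_of_not_mem _ h1,
        Perm.ofSubtype_apply_of_not_mem _ h2] using this
  have h1 := Nat.card_le_card_of_injective f hf
  rw [Nat.card_prod, Nat.card_perm, Nat.card_perm, Nat.card_eq_fintype_card (α := {x // x ∈ s}),
    Nat.card_eq_fintype_card (α := {x // x ∈ sᶜ}), Fintype.card_coe, Fintype.card_coe] at h1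
  rw [le_antisymm (Nat.le_of_dvd (Nat.mul_pos (Nat.factorial_pos _) (Nat.factorial_pos _))
    (card_stabP_dvd s)) h1]

theorem index_stabP (s : Finset α) : (stabP s).index = (Fintype.card α).choose s.card := by
  have h := (stabP s).index_mul_card
  rw [card_stabP, Nat.card_perm, Nat.card_eq_fintype_card,
    ← Nat.choose_mul_factorial_mul_factorial s.card_le_univ, mul_assoc, ← Finset.card_compl] at h
  exact Nat.eq_of_mul_eq_mul_right (Nat.mul_pos (Nat.factorial_pos _) (Nat.factorial_pos _)) h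

/-- The group of the exceptional Hall subgroup belonging to `s`. -/
abbrev shapeGroup (s : Finset α) : Subgroup (Perm α) := fibStab (fun x => decide (x ∈ s))

theorem shapeGroup_pi {s : Finset α} (hs : 0 < s.card) (hs' : 0 < sᶜ.card)
    (hpi : ∀ r : ℕ, r.Prime → (r ≤ 2 ∨ r ≤ s.card ∨ r ≤ sᶜ.card) → r ∈ π) :
    Cfsg.IsPiSubgroup π (shapeGroup s) := by
  intro r hr hd
  have hsurj : Function.Surjective (fun x : α => decide (x ∈ s)) := fun b => by
    obtain ⟨a, ha⟩ := Finset.card_pos.1 hs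
    obtain ⟨c, hc⟩ := Finset.card_pos.1 hs'
    cases b
    · exact ⟨c, by simpa using hc⟩
    · exact ⟨a, by simpa using ha⟩
  have := hd.trans (card_fibStab_dvd hsurj)
  rw [Fintype.card_bool, Fintype.prod_bool] at this
  have e1 : (Finset.univ.filter fun x => decide (x ∈ s) = true) = s := by ext; simp
  have e2 : (Finset.univ.filter fun x => decide (x ∈ s) = false) = sᶜ := by ext; simp
  rw [e1, e2] at this
  refine hpi r hr ?_
  rcases hr.dvd_mul.1 this with h | h
  · exact Or.inl (hr.dvd_factorial.1 h)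
  · rcases hr.dvd_mul.1 h with h | h
    · exact Or.inr (Or.inl (hr.dvd_factorial.1 h))
    · exact Or.inr (Or.inr (hr.dvd_factorial.1 h))

theorem exists_swap_mem {s : Finset α} (h3 : 3 ≤ Fintype.card α) :
    ∃ a b : α, a ≠ b ∧ swap a b ∈ stabP s := by
  have := s.card_add_card_compl
  rcases (by omega : 2 ≤ s.card ∨ 2 ≤ sᶜ.card) with hc | hc <;>
    obtain ⟨a, ha, b, hb, hab⟩ := Finset.one_lt_card.1 hc <;>
    exact ⟨a, b, hab, swap_mem_stabP (by simp_all)⟩

theorem relIndex_of_sup {T S : Subgroup (Perm α)} (hT : IsT T) (hsup : T ⊔ S = ⊤) :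
    (T ⊓ S).relIndex T = S.index := by
  haveI := hT.normal
  have e1 : T.relIndex S = T.index := by
    rw [← Subgroup.relIndex_sup_left, hsup, Subgroup.relIndex_top_right]
  have h3 := Subgroup.relIndex_mul_index (inf_le_left : T ⊓ S ≤ T)
  have h4 := Subgroup.relIndex_mul_index (inf_le_right : T ⊓ S ≤ S)
  rw [Subgroup.inf_relIndex_right, e1] at h4
  exact Nat.eq_of_mul_eq_mul_right (Nat.pos_of_ne_zero Subgroup.index_ne_zero_of_finite)
    (by rw [h3, ← h4, mul_comm])

/-- The data of an exceptional Hall subgroup. -/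
def Good (π : Set ℕ) (s : Finset α) : Prop :=
  ((Fintype.card α).Prime ∧ s.card = 1 ∧
      ∀ r : ℕ, r.Prime → r ≤ Fintype.card α → (r ∈ π ↔ r < Fintype.card α)) ∨
    ((Fintype.card α = 7 ∨ Fintype.card α = 8) ∧ s.card = 4 ∧
      ∀ r : ℕ, r.Prime → r ≤ Fintype.card α → (r ∈ π ↔ (r = 2 ∨ r = 3)))

theorem exists_good (h : Cond π (Fintype.card α)) : ∃ s : Finset α, Good π s := by
  rcases h with ⟨hp, hc⟩ | ⟨h78, hc⟩
  · obtain ⟨s, -, hs⟩ := Finset.exists_subset_card_eq (s := (Finset.univ : Finset α)) (n := 1)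
      (by simp; exact hp.one_lt.le)
    exact ⟨s, Or.inl ⟨hp, hs, hc⟩⟩
  · obtain ⟨s, -, hs⟩ := Finset.exists_subset_card_eq (s := (Finset.univ : Finset α)) (n := 4)
      (by simp; omega)
    exact ⟨s, Or.inr ⟨h78, hs, hc⟩⟩

theorem Good.cond {s : Finset α} (h : Good π s) : Cond π (Fintype.card α) := by
  rcases h with ⟨h1, -, h3⟩ | ⟨h1, -, h3⟩
  exacts [Or.inl ⟨h1, h3⟩, Or.inr ⟨h1, h3⟩]

theorem Good.card_eq {s t : Finset α} (hs : Good π s) (ht : Good π t) : s.card = t.card := by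
  have cross : (Fintype.card α).Prime → (Fintype.card α = 7 ∨ Fintype.card α = 8) →
      (∀ r : ℕ, r.Prime → r ≤ Fintype.card α → (r ∈ π ↔ r < Fintype.card α)) →
      (∀ r : ℕ, r.Prime → r ≤ Fintype.card α → (r ∈ π ↔ (r = 2 ∨ r = 3))) → False := by
    intro hp h78 hc hc'
    rcases h78 with h7 | h8
    · rcases (hc' 5 (by norm_num) (by omega)).1 ((hc 5 (by norm_num) (by omega)).2 (by omega)) with
        e | e <;> omega
    · rw [h8] at hp; norm_num at hp
  rcases hs with ⟨hp, e, hc⟩ | ⟨h78, e, hc⟩ <;> rcases ht with ⟨hp', e', hc'⟩ | ⟨h78', e', hc'⟩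
  · omega
  · exact (cross hp h78' hc hc').elim
  · exact (cross hp' h78 hc' hc).elim
  · omega

/-- **The exceptional groups are Hall subgroups.** -/
theorem Good.hall {T : Subgroup (Perm α)} (hT : IsT T) {s : Finset α} (h : Good π s)
    (h3 : 3 ≤ Fintype.card α) : Cfsg.IsPiHallOf π (T ⊓ shapeGroup s) T := by
  have hc := s.card_add_card_compl
  have hK : Cfsg.IsPiSubgroup π (shapeGroup s) := by
    rcases h with ⟨-, h1, hcond⟩ | ⟨h78, h4, hcond⟩
    · exact shapeGroup_pi (by omega) (by omega) fun r hr hle =>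
        (hcond r hr (by omega)).2 (by omega)
    · refine shapeGroup_pi (by omega) (by omega) fun r hr hle => (hcond r hr (by omega)).2 ?_
      have := hr.two_le
      rcases (by omega : r = 2 ∨ r = 3 ∨ r = 4) with e | e | e
      · exact Or.inl e
      · exact Or.inr e
      · subst e; norm_num at hr
  obtain ⟨a, b, hab, hmem⟩ := exists_swap_mem (s := s) h3
  have hsup : T ⊔ shapeGroup s = ⊤ :=
    sup_eq_top hT (stabP_le_fibStab s hmem) (Perm.sign_swap hab)
  refine ⟨inf_le_left, fun r hr hd => hK r hr (hd.trans (Subgroup.card_dvd_of_le inf_le_right)),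
    fun r hr hrpi hd => ?_⟩
  rw [relIndex_of_sup hT hsup] at hd
  have hd' := hd.trans (Subgroup.index_dvd_of_le (stabP_le_fibStab s))
  rw [index_stabP] at hd'
  rcases h with ⟨hp, h1, hcond⟩ | ⟨h78, h4, hcond⟩
  · rw [h1, Nat.choose_one_right] at hd'
    have e := (Nat.prime_dvd_prime_iff_eq hr hp).1 hd'
    have := (hcond r hr e.le).1 hrpi
    omega
  · have hr2 : r ≤ Fintype.card α → r = 2 ∨ r = 3 := fun hle => (hcond r hr hle).1 hrpi
    rcases h78 with h7 | h8
    · rw [h7, h4, show Nat.choose 7 4 = 5 * 7 by decide] at hd'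
      rcases hr.dvd_mul.1 hd' with h | h <;>
        (have := Nat.le_of_dvd (by norm_num) h
         rcases hr2 (by omega) with rfl | rfl <;> norm_num at h)
    · -- the extra factor two
      have hne : ∃ g ∈ shapeGroup s, g ∉ stabP s := by
        have e : {x // x ∈ s} ≃ {x // x ∈ sᶜ} := Fintype.equivOfCardEq (by
          rw [Fintype.card_coe, Fintype.card_coe]; omega)
        have key : ∀ x, e.extendSubtype x ∈ s ↔ x ∉ s := fun x => by
          by_cases hx : x ∈ s
          · have := e.extendSubtype_mem x hx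
            simp only [Finset.mem_compl] at this
            simp [hx, this]
          · have := e.extendSubtype_not_mem x hx
            simp only [Finset.mem_compl, not_not] at this
            simp [hx, this]
        obtain ⟨z, hz⟩ := Finset.card_pos.1 (show 0 < s.card by omega)
        refine ⟨e.extendSubtype, fun x y => ?_, fun hg => ?_⟩
        · rw [decide_eq_decide, decide_eq_decide, key, key, not_iff_not]
        · exact ((key z).1 ((hg z).2 hz)) hz
      obtain ⟨g, hg, hgn⟩ := hne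
      have e1 := Subgroup.relIndex_mul_index (stabP_le_fibStab s)
      have hne1 : (stabP s).relIndex (shapeGroup s) ≠ 1 := fun e =>
        hgn (Subgroup.relIndex_eq_one.1 e hg)
      have hdvd : (stabP s).relIndex (shapeGroup s) ∣ 2 := by
        have hsurj : Function.Surjective (fun x : α => decide (x ∈ s)) := fun b => by
          obtain ⟨z, hz⟩ := Finset.card_pos.1 (show 0 < s.card by omega)
          obtain ⟨c, hc⟩ := Finset.card_pos.1 (show 0 < sᶜ.card by omega)
          cases b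
          · exact ⟨c, by simpa using hc⟩
          · exact ⟨z, by simpa using hz⟩
        have h2 := card_fibStab_dvd hsurj
        rw [Fintype.card_bool, Fintype.prod_bool] at h2
        have e1 : (Finset.univ.filter fun x => decide (x ∈ s) = true) = s := by ext; simp
        have e2 : (Finset.univ.filter fun x => decide (x ∈ s) = false) = sᶜ := by ext; simp
        rw [e1, e2, Nat.factorial_two, ← card_stabP] at h2
        have h5 := Subgroup.card_mul_index ((stabP s).subgroupOf (shapeGroup s))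
        rw [Nat.card_congr (Subgroup.subgroupOfEquivOfLe (stabP_le_fibStab s)).toEquiv] at h5
        exact Nat.dvd_of_mul_dvd_mul_left (Nat.card_pos (α := stabP s))
          (by rw [Subgroup.relIndex, h5, mul_comm]; exact h2)
      rw [((Nat.dvd_prime Nat.prime_two).1 hdvd).resolve_left hne1, index_stabP, h8, h4,
        show Nat.choose 8 4 = 2 * 35 by decide] at e1
      rw [show (shapeGroup s).index = 5 * 7 from (Nat.eq_of_mul_eq_mul_left Nat.two_pos e1).trans rfl] at hd
      rcases hr.dvd_mul.1 hd with h | h <;>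
        (have := Nat.le_of_dvd (by norm_num) h
         rcases hr2 (by omega) with rfl | rfl <;> norm_num at h)

theorem conj_mem_shapeGroup {s t : Finset α} {g : Perm α} (hg : ∀ x, g x ∈ t ↔ x ∈ s) (h : Perm α) :
    g * h * g⁻¹ ∈ shapeGroup t ↔ h ∈ shapeGroup s := by
  have hi : ∀ x, g⁻¹ x ∈ s ↔ x ∈ t := fun x => by simpa using (hg (g⁻¹ x)).symm
  simp only [mem_fibStab, Perm.mul_apply, decide_eq_decide, hg]
  constructor
  · intro h1 x y
    have := h1 (g x) (g y)
    simpa [hg] using this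
  · intro h1 x y
    rw [h1, hi, hi]

theorem exists_conj {T : Subgroup (Perm α)} (hT : IsT T) {s t : Finset α} (hst : s.card = t.card)
    (h3 : 3 ≤ Fintype.card α) :
    ∃ g ∈ T, (T ⊓ shapeGroup t) = (T ⊓ shapeGroup s).map (MulAut.conj g).toMonoidHom := by
  have e : {x // x ∈ s} ≃ {x // x ∈ t} := Fintype.equivOfCardEq (by simpa using hst)
  obtain ⟨g, hg⟩ : ∃ g : Perm α, ∀ x, g x ∈ t ↔ x ∈ s := ⟨e.extendSubtype, fun x => by
    by_cases hx : x ∈ s
    · simp [hx, e.extendSubtype_mem x hx]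
    · simp [hx, e.extendSubtype_not_mem x hx]⟩
  obtain ⟨g, hgT, hg⟩ : ∃ g ∈ T, ∀ x, g x ∈ t ↔ x ∈ s := by
    rcases Int.units_eq_one_or (Perm.sign g) with e | e
    · exact ⟨g, hT.alt_le (Perm.mem_alternatingGroup.2 e), hg⟩
    · obtain ⟨a, b, hab, hm⟩ := exists_swap_mem (s := s) h3
      exact ⟨g * swap a b, hT.alt_le (Perm.mem_alternatingGroup.2 (by
        rw [map_mul, e, Perm.sign_swap hab]; rfl)), fun x => (hg _).trans (hm x)⟩
  refine ⟨g, hgT, Subgroup.ext fun y => ?_⟩
  rw [Subgroup.mem_map]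
  constructor
  · intro hy
    refine ⟨g⁻¹ * y * g, Subgroup.mem_inf.2 ⟨T.mul_mem (T.mul_mem (T.inv_mem hgT) hy.1) hgT, ?_⟩, ?_⟩
    · rw [← conj_mem_shapeGroup hg, show g * (g⁻¹ * y * g) * g⁻¹ = y by group]
      exact hy.2
    · show g * (g⁻¹ * y * g) * g⁻¹ = y
      group
  · rintro ⟨x, hx, rfl⟩
    exact ⟨T.mul_mem (T.mul_mem hgT hx.1) (T.inv_mem hgT), (conj_mem_shapeGroup hg x).2 hx.2⟩

/-- **A Hall subgroup outside the trivial cases is exceptional.** -/
theorem hall_cases {H T : Subgroup (Perm α)} (hT : IsT T) (h : Cfsg.IsPiHallOf π H T) :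
    One π (Fintype.card α) ∨ All π (Fintype.card α) ∨
      (3 ≤ Fintype.card α ∧ ∃ s : Finset α, Good π s ∧ H = T ⊓ shapeGroup s) := by
  by_cases hone : One π (Fintype.card α)
  · exact Or.inl hone
  by_cases hall : All π (Fintype.card α)
  · exact Or.inr (Or.inl hall)
  refine Or.inr (Or.inr ?_)
  simp only [One, not_forall] at hone
  obtain ⟨r, s, hr, hs, hrp, hsp, hrn, hsn, hne⟩ := hone
  obtain ⟨q, hq, hq2, hqp, hqn⟩ : ∃ q, q.Prime ∧ q ≠ 2 ∧ q ∈ π ∧ q ≤ Fintype.card α := by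
    rcases eq_or_ne r 2 with rfl | hr2
    · exact ⟨s, hs, Ne.symm hne, hsp, hsn⟩
    · exact ⟨r, hr, hr2, hrp, hrn⟩
  have h3 : 3 ≤ Fintype.card α := by have := hq.two_le; omega
  have h2 : 2 ∈ π := by
    by_contra h2
    rcases lt_or_gt_of_ne hne with hlt | hlt
    · exact odd_none π h2 _ α rfl H T hT h r s hr hs hrp hsp hlt hsn
    · exact odd_none π h2 _ α rfl H T hT h s r hs hr hsp hrp hlt hrn
  obtain ⟨t, htH, htg⟩ := (classify π h2 _ α rfl H T hT h q hq hq2 hqp hqn).resolve_left hall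
  refine ⟨h3, t, htg, le_antisymm (le_inf h.1 htH) ?_⟩
  have hK : Cfsg.IsPiHallOf π (T ⊓ shapeGroup t) T := Good.hall hT htg h3
  have hH := hallOf_of_le h (le_inf h.1 htH) inf_le_left
  refine Subgroup.relIndex_eq_one.1 ?_
  by_contra hne'
  obtain ⟨p, hp, hd⟩ := Nat.exists_prime_and_dvd hne'
  exact hH.2.2 p hp (hK.2.1 p hp (hd.trans (Subgroup.relIndex_dvd_card _ _))) hd

/-- **Existence and conjugacy.** -/
theorem main {T : Subgroup (Perm α)} (hT : IsT T) :
    (Cfsg.IsEPiGroup π T ↔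
        One π (Fintype.card α) ∨ All π (Fintype.card α) ∨ Cond π (Fintype.card α)) ∧
      (Cfsg.IsEPiGroup π T ↔ Cfsg.IsCPiGroup π T) := by
  have hC : One π (Fintype.card α) ∨ All π (Fintype.card α) ∨ Cond π (Fintype.card α) →
      Cfsg.IsCPiGroup π T := by
    rintro (h | h | hcond)
    · exact c_pi_of_d (d_pi_of_one fun r s hr hs hrp hsp hrd hsd =>
        h r s hr hs hrp hsp (prime_le_of_dvd hr hrd) (prime_le_of_dvd hs hsd))
    · exact c_pi_of_d (d_pi_of_all fun r hr hrd => h r hr (prime_le_of_dvd hr hrd))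
    · by_cases htriv : One π (Fintype.card α) ∨ All π (Fintype.card α)
      · rcases htriv with h | h
        · exact c_pi_of_d (d_pi_of_one fun r s hr hs hrp hsp hrd hsd =>
            h r s hr hs hrp hsp (prime_le_of_dvd hr hrd) (prime_le_of_dvd hs hsd))
        · exact c_pi_of_d (d_pi_of_all fun r hr hrd => h r hr (prime_le_of_dvd hr hrd))
      push Not at htriv
      have h3 : 3 ≤ Fintype.card α := by
        by_contra hlt
        exact htriv.1 fun r s hr hs _ _ hrn hsn => by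
          have := hr.two_le; have := hs.two_le; omega
      obtain ⟨s, hs⟩ := exists_good hcond
      refine ⟨⟨(T ⊓ shapeGroup s).subgroupOf T, (isPiHall_subtype _).2 ?_⟩, fun M N hM hN => ?_⟩
      · rw [Subgroup.map_subgroupOf_eq_of_le inf_le_left]
        exact hs.hall hT h3
      · obtain ⟨-, t, ht, eM⟩ := ((hall_cases hT ((isPiHall_subtype M).1 hM)).resolve_left
          htriv.1).resolve_left htriv.2
        obtain ⟨-, u, hu, eN⟩ := ((hall_cases hT ((isPiHall_subtype N).1 hN)).resolve_left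
          htriv.1).resolve_left htriv.2
        obtain ⟨g, hgT, hg⟩ := exists_conj hT (ht.card_eq hu) h3
        refine ⟨⟨g, hgT⟩, Subgroup.map_injective T.subtype_injective ?_⟩
        rw [eN, hg, ← eM, Subgroup.map_map, Subgroup.map_map]
        rfl
  have hE : Cfsg.IsEPiGroup π T →
      One π (Fintype.card α) ∨ All π (Fintype.card α) ∨ Cond π (Fintype.card α) := by
    rintro ⟨M, hM⟩
    rcases hall_cases hT ((isPiHall_subtype M).1 hM) with h | h | ⟨-, s, hs, -⟩
    exacts [Or.inl h, Or.inr (Or.inl h), Or.inr (Or.inr hs.cond)]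
  exact ⟨⟨hE, fun h => (hC h).1⟩, fun h => hC (hE h), fun h => h.1⟩

theorem e_perm_iff : Cfsg.IsEPiGroup π (Perm α) ↔ Cfsg.IsEPiGroup π (⊤ : Subgroup (Perm α)) := by
  constructor
  · rintro ⟨H, hH⟩
    refine ⟨H.subgroupOf ⊤, (isPiHall_subtype _).2 ?_⟩
    rw [Subgroup.map_subgroupOf_eq_of_le le_top]
    exact ⟨le_top, hH.1, fun p hp hpi => by rw [Subgroup.relIndex_top_right]; exact hH.2 p hp hpi⟩
  · rintro ⟨M, hM⟩
    obtain ⟨-, h1, h2⟩ := (isPiHall_subtype M).1 hM
    refine ⟨M.map (⊤ : Subgroup (Perm α)).subtype, h1, fun p hp hpi => ?_⟩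
    rw [← Subgroup.relIndex_top_right]
    exact h2 p hp hpi

theorem c_perm_of_top (h : Cfsg.IsCPiGroup π (⊤ : Subgroup (Perm α))) :
    Cfsg.IsCPiGroup π (Perm α) := by
  refine ⟨e_perm_iff.2 h.1, fun H K hH hK => ?_⟩
  have conv : ∀ H : Subgroup (Perm α), Cfsg.IsPiHall π H → Cfsg.IsPiHall π (H.subgroupOf ⊤) :=
    fun H hH => (isPiHall_subtype _).2 (by
      rw [Subgroup.map_subgroupOf_eq_of_le le_top]
      exact ⟨le_top, hH.1, fun p hp hpi => by rw [Subgroup.relIndex_top_right]; exact hH.2 p hp hpi⟩)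
  obtain ⟨g, hg⟩ := h.2 _ _ (conv H hH) (conv K hK)
  refine ⟨g, ?_⟩
  have e := congrArg (Subgroup.map (⊤ : Subgroup (Perm α)).subtype) hg
  rw [Subgroup.map_subgroupOf_eq_of_le le_top, Subgroup.map_map] at e
  conv_rhs => rw [← Subgroup.map_subgroupOf_eq_of_le (le_top (a := H)), Subgroup.map_map]
  exact e

end Cfsg.Agent.GenA.AltHall
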